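import Cfsg.Agent.Coset.Chain

/-!
# Relators of three overlapping local subgroups of the McLaughlin group

Letters `0 1` and `2 3` are two generators of a group of order 384 and their inverses, letter `4` an
involution completing it to the stabilizer of the first elementary abelian subgroup of order 16 in the
centralizer of an involution, letter `5` one for the second, and letter `6` an involution in both
normalizers moving the central involution.
-/

set_option autoImplicit false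

namespace CfsgLib.McLUniq

open CfsgLib.Coset

/-- The inverse of a letter. -/
def iv (x : Nat) : Nat := ([1, 0, 3, 2, 4, 5, 6] : List Nat).getD x x

/-- The pairs of inverse letters. -/
def relsI : List (List Nat) := [[0, 1], [1, 0], [2, 3], [3, 2], [4, 4], [5, 5], [6, 6]]

/-- Relators inside the involution centralizer. -/
def relsH : List (List Nat) := [[0, 3, 5, 4, 5, 3, 4, 1, 4], [2, 2, 4, 3, 4, 3, 4, 3, 4], [0, 0, 0, 3, 1, 3, 1, 3, 1, 3], [0, 0, 2, 0, 3, 0, 0, 2, 0, 3], [0, 0, 2, 0, 3, 1, 1, 2, 0, 3], [0, 0, 2, 0, 5, 1, 5, 0, 5, 3], [0, 0, 2, 1, 3, 0, 0, 2, 1, 3], [0, 0, 2, 5, 1, 5, 0, 5, 1, 3], [0, 0, 0, 2, 1, 5, 2, 1, 5, 3, 5], [0, 0, 0, 2, 4, 3, 1, 4, 2, 0, 3], [0, 0, 0, 3, 4, 0, 2, 4, 3, 0, 2], [0, 0, 0, 4, 0, 3, 4, 3, 5, 4, 5], [0, 0, 0, 4, 0, 3, 5, 4, 5, 3, 4], [0, 0, 0, 4, 0, 4, 2, 5, 4, 5, 2]]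

/-- Relators inside the first normalizer. -/
def relsM : List (List Nat) := [[0, 0, 3, 6, 0, 3, 0, 2, 6], [0, 0, 6, 3, 1, 2, 1, 6, 2], [0, 2, 2, 6, 1, 6, 3, 1, 6], [0, 3, 3, 6, 0, 6, 2, 1, 6], [0, 3, 6, 0, 3, 6, 0, 3, 6], [0, 6, 2, 0, 6, 2, 0, 6, 2], [2, 2, 6, 3, 6, 3, 6, 3, 6], [0, 3, 6, 1, 2, 6, 2, 0, 6, 3], [0, 6, 2, 0, 6, 2, 0, 6, 3, 3], [0, 6, 4, 6, 1, 2, 4, 6, 4, 3], [2, 2, 6, 3, 6, 2, 2, 6, 3, 6]]

/-- Relators inside the second normalizer. -/
def relsN : List (List Nat) := [[0, 6, 5, 0, 6, 5, 0, 6, 5], [0, 0, 3, 6, 5, 0, 0, 5, 6, 2], [0, 0, 3, 6, 5, 1, 1, 5, 6, 2], [0, 0, 5, 1, 6, 1, 6, 1, 6, 5], [0, 0, 5, 6, 0, 6, 0, 6, 0, 5], [0, 0, 6, 0, 5, 0, 5, 0, 5, 6], [0, 0, 6, 5, 1, 5, 1, 5, 1, 6]]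

/-- All relators. -/
def rels : List (List Nat) := relsI ++ relsH ++ relsM ++ relsN

/-- The letters of the involution centralizer. -/
def subs : List (List Nat) := [[0], [1], [2], [3], [4], [5]]

/-- Seven elements satisfying the relators. -/
structure Rels {G : Type*} [Group G] (L : List G) : Prop where
  len : L.length = 7
  rel : ∀ w ∈ rels, ev L w = 1

/-- The subgroup of the six letters of the involution centralizer. -/
noncomputable abbrev subH {G : Type*} [Group G] (L : List G) : Subgroup G := genBy L [0, 1, 2, 3, 4, 5]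

end CfsgLib.McLUniq
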