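import Cfsg.Agent.Coset.Chain
import Cfsg.Agent.McLRankThree.PointCheck
import Cfsg.Agent.McLUniq.Rels
import Cfsg.Agent.McLUniq.Data

/-!
# The seven permutations and the comparison of words in them
-/

set_option autoImplicit false
set_option maxRecDepth 100000

namespace CfsgLib.McLUniq

open CfsgLib.Coset
open CfsgLib.McLRankThree (getP)

/-- A letter on a point number; other numbers act trivially. -/
def tabN (l v : Nat) : Nat := if l < 7 then getP (gBits.getD l 0) v else v

/-- A word on a point number, the last letter first. -/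
def appN (w : List Nat) (v : Nat) : Nat := w.foldr tabN v

theorem tab_ok : ((List.range 7).all fun l => (List.range 275).all fun v =>
    decide (tabN l v < 275) && Nat.beq (tabN (iv l) (tabN l v)) v) = true := by decide +kernel

theorem tab_facts {l : Nat} (hl : l < 7) {v : Nat} (hv : v < 275) :
    tabN l v < 275 ∧ tabN (iv l) (tabN l v) = v := by
  have h := List.all_eq_true.1 (List.all_eq_true.1 tab_ok l (List.mem_range.2 hl)) v (List.mem_range.2 hv)
  rw [Bool.and_eq_true, decide_eq_true_eq] at h
  exact ⟨h.1, Nat.eq_of_beq_eq_true h.2⟩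

/-- A letter as a map of the points. -/
def tabF (l : Fin 7) (v : Fin 275) : Fin 275 := ⟨tabN l.val v.val, (tab_facts l.2 v.2).1⟩

/-- A letter as a permutation. -/
noncomputable def pl (l : Fin 7) : Equiv.Perm (Fin 275) :=
  Equiv.ofBijective (tabF l) (Finite.injective_iff_bijective.mp fun a b h => Fin.ext (by
    have e := congrArg (tabN (iv l.val)) (congrArg Fin.val h)
    simp only [tabF] at e
    rwa [(tab_facts l.2 a.2).2, (tab_facts l.2 b.2).2] at e))

/-- The seven permutations. -/
noncomputable def L0 : List (Equiv.Perm (Fin 275)) := List.ofFn pl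

theorem L0_len : L0.length = 7 := by simp [L0]

theorem fl_L0_apply (l : Nat) (v : Fin 275) : ((fl L0 l) v).val = tabN l v.val := by
  rcases lt_or_ge l 7 with hl | hl
  · rw [fl, List.getD_eq_getElem _ _ (by rw [L0_len]; exact hl)]
    unfold L0
    rw [List.getElem_ofFn]
    rfl
  · rw [fl_of_le L0 (by rw [L0_len]; exact hl)]
    simp [tabN, Nat.not_lt.2 hl]

theorem ev_apply (w : List Nat) (v : Fin 275) : ((ev L0 w) v).val = appN w v.val := by
  induction w with
  | nil => simp [appN]
  | cons l w ih =>
    rw [ev_cons, Equiv.Perm.mul_apply, fl_L0_apply, ih]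
    rfl

/-- Two words give the same permutation. -/
def eqW (u w : List Nat) : Bool := (List.range 275).all fun v => Nat.beq (appN u v) (appN w v)

theorem ev_eq_of_eqW {u w : List Nat} (h : eqW u w = true) : ev L0 u = ev L0 w :=
  Equiv.ext fun v => Fin.ext (by
    rw [ev_apply, ev_apply]
    exact Nat.eq_of_beq_eq_true (List.all_eq_true.1 h v.val (List.mem_range.2 v.2)))

theorem appN_eq_of_ev {u w : List Nat} (h : ev L0 u = ev L0 w) {p : Nat} (hp : p < 275) :
    appN u p = appN w p := by
  have := congrArg (fun g : Equiv.Perm (Fin 275) => (g ⟨p, hp⟩).val) h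
  simpa only [ev_apply] using this

/-- The images of some points under a word. -/
def keyW (pts : List Nat) (w : List Nat) : List Nat := pts.map (appN w)

theorem keyW_eq {pts u w : List Nat} (hp : ∀ p ∈ pts, p < 275) (h : ev L0 u = ev L0 w) :
    keyW pts u = keyW pts w :=
  List.map_congr_left fun p hm => appN_eq_of_ev h (hp p hm)

/-- The inverse of a word. -/
def invW (w : List Nat) : List Nat := w.reverse.map iv

theorem fl_iv_L0 (l : Nat) : fl L0 (iv l) = (fl L0 l)⁻¹ := by
  rcases lt_or_ge l 7 with hl | hl
  · refine eq_inv_of_mul_eq_one_left (Equiv.ext fun v => Fin.ext ?_)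
    rw [Equiv.Perm.mul_apply, fl_L0_apply, fl_L0_apply, (tab_facts hl v.2).2]
    rfl
  · rw [iv, List.getD_eq_default _ _ (by simpa using hl), fl_of_le L0 (by rw [L0_len]; exact hl), inv_one]

theorem ev_invW (w : List Nat) : ev L0 (invW w) = (ev L0 w)⁻¹ := by
  induction w with
  | nil => simp [invW]
  | cons l w ih =>
    rw [invW, List.reverse_cons, List.map_append, ev_append, ← invW, ih, ev_cons, mul_inv_rev]
    simp [fl_iv_L0]

theorem rels_ok : (rels.all fun w => eqW w []) = true := by decide +kernel

/-- The permutations satisfy the relators. -/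
theorem rels_L0 : Rels L0 :=
  ⟨L0_len, fun w hw => by rw [ev_eq_of_eqW (List.all_eq_true.1 rels_ok w hw), ev_nil]⟩

end CfsgLib.McLUniq
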