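import Cfsg.Agent.McLUniq.Bound
import Cfsg.Agent.McLUniq.Perm
import Cfsg.Agent.McLRankThree.Main
import Cfsg.Agent.McLSimple.Main

/-!
# The seven permutations generate the standard group and give a model of the relators
-/

set_option autoImplicit false
set_option maxRecDepth 100000
set_option maxHeartbeats 1000000
set_option linter.style.haveILetI false

namespace CfsgLib.McLUniq

open Subgroup CfsgLib.Coset
open CfsgLib.McLRankThree (V Adj M M0 Aut0 adjRows)

attribute [local irreducible] adjRows CfsgLib.McLRankThree.permBits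

/-- A letter preserves the adjacency at a point. -/
def adjL (l i : Nat) : Bool :=
  let r := adjRows.getD i 0
  let s := adjRows.getD (tabN l i) 0
  (List.range 275).all fun j => s.testBit (tabN l j) == r.testBit j

/-- The letters `0`, `2`, `4`, `5`, `6` preserve the adjacency. -/
theorem adjL_ok : ([0, 2, 4, 5, 6].all fun l => (List.range 275).all (adjL l)) = true := by decide +kernel

theorem adj_letter {l : Nat} (hl : l ∈ [0, 2, 4, 5, 6]) (i j : V) :
    Adj (fl L0 l i) (fl L0 l j) = Adj i j := by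
  have h := List.all_eq_true.1 (List.all_eq_true.1 (List.all_eq_true.1 adjL_ok l hl) i.val
    (List.mem_range.2 i.2)) j.val (List.mem_range.2 j.2)
  simp only [Adj, fl_L0_apply]
  exact eq_of_beq h

/-- The permutations preserving the adjacency. -/
def autA : Subgroup (Equiv.Perm V) where
  carrier := {x | ∀ i j, Adj (x i) (x j) = Adj i j}
  mul_mem' := fun hx hy i j => by rw [Equiv.Perm.mul_apply, Equiv.Perm.mul_apply, hx, hy]
  one_mem' := fun _ _ => rfl
  inv_mem' := fun {x} hx i j => by
    rw [← hx (x⁻¹ i) (x⁻¹ j)]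
    simp

theorem letter_autA : ∀ l, fl L0 l ∈ autA := by
  intro l
  have h0 : ∀ k ∈ [0, 2, 4, 5, 6], fl L0 k ∈ autA := fun k hk i j => adj_letter hk i j
  rcases lt_or_ge l 7 with hl | hl
  · interval_cases l
    · exact h0 0 (by decide)
    · rw [show (1 : Nat) = iv 0 from rfl, fl_iv_L0]; exact inv_mem (h0 0 (by decide))
    · exact h0 2 (by decide)
    · rw [show (3 : Nat) = iv 2 from rfl, fl_iv_L0]; exact inv_mem (h0 2 (by decide))
    · exact h0 4 (by decide)
    · exact h0 5 (by decide)
    · exact h0 6 (by decide)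
  · rw [fl_of_le L0 (by rw [L0_len]; exact hl)]; exact one_mem _

theorem word_autA (w : List Nat) : ev L0 w ∈ autA := by
  induction w with
  | nil => exact one_mem _
  | cons l w ih => rw [ev_cons]; exact mul_mem (letter_autA l) ih

open CfsgLib.McLRankThree in
theorem sq_mem_M {y : Equiv.Perm V} (hy : y ∈ autA) : y * y ∈ M := by
  by_cases hM : y ∈ M
  · exact mul_mem hM hM
  have hy' : y⁻¹ ∉ M := fun h => hM (by simpa using inv_mem h)
  have split : ∀ g : Equiv.Perm V, g ∈ autA → g ∉ M → ∃ m ∈ M, m⁻¹ * g ∈ Aut0 ∧ m⁻¹ * g ∉ M0 := by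
    intro g hg hg'
    obtain ⟨m, hm, e⟩ := M_transitive 0 (g 0)
    refine ⟨m, hm, ⟨?_, fun i j => ?_⟩, fun hx => hg' ?_⟩
    · rw [Equiv.Perm.mul_apply, ← e]; simp
    · rw [Equiv.Perm.mul_apply, Equiv.Perm.mul_apply, adj_M (inv_mem hm), hg]
    · simpa using mul_mem hm (M0_le_M hx)
  obtain ⟨m, hm, hxA, hxM⟩ := split y hy hM
  obtain ⟨n, hn, hzA, hzM⟩ := split y⁻¹ (inv_mem hy) hy'
  have := mul_mem (mul_mem hm (M0_le_M (mul_inv_mem_M0 hxA hzA hxM hzM))) (inv_mem hn)
  simpa [mul_assoc] using this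

/-- The roots and the factors of order seven. -/
def rootOK : Bool :=
  ((List.range 4).all fun k => eqW (rootW.getD k [] ++ rootW.getD k []) [[2, 4, 5, 6].getD k 0]) &&
  eqW (sevenW.getD 0 [] ++ sevenW.getD 1 []) [0] &&
  (List.range 2).all fun k => eqW ((List.replicate 7 (sevenW.getD k [])).flatten) []

theorem root_ok : rootOK = true := by decide +kernel

theorem letter_mem_M : ∀ l, fl L0 l ∈ M := by
  have h := root_ok
  simp only [rootOK, Bool.and_eq_true, List.all_eq_true, List.mem_range] at h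
  obtain ⟨⟨hr, hp⟩, hs⟩ := h
  have h2 : ∀ k < 4, fl L0 (([2, 4, 5, 6] : List Nat).getD k 0) ∈ M := fun k hk => by
    have e := ev_eq_of_eqW (hr k hk)
    rw [ev_append] at e
    rw [show fl L0 (([2, 4, 5, 6] : List Nat).getD k 0) = ev L0 [([2, 4, 5, 6] : List Nat).getD k 0] by simp, ← e]
    exact sq_mem_M (word_autA _)
  have h7 : ∀ k < 2, ev L0 (sevenW.getD k []) ∈ M := fun k hk => by
    have e := ev_eq_of_eqW (hs k hk)
    rw [← pow_ev, ev_nil] at e
    set x := ev L0 (sevenW.getD k [])
    have : x = x ^ 4 * x ^ 4 := by rw [← pow_add, pow_succ, e, one_mul]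
    rw [this]
    exact sq_mem_M (pow_mem (word_autA _) _)
  have h0 : fl L0 0 ∈ M := by
    have e := ev_eq_of_eqW hp
    rw [ev_append, ev_cons, ev_nil, mul_one] at e
    rw [← e]
    exact mul_mem (h7 0 (by norm_num)) (h7 1 (by norm_num))
  intro l
  rcases lt_or_ge l 7 with hl | hl
  · interval_cases l
    · exact h0
    · rw [show (1 : Nat) = iv 0 from rfl, fl_iv_L0]; exact inv_mem h0
    · exact h2 0 (by norm_num)
    · rw [show (3 : Nat) = iv 2 from rfl, fl_iv_L0]; exact inv_mem (h2 0 (by norm_num))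
    · exact h2 1 (by norm_num)
    · exact h2 2 (by norm_num)
    · exact h2 3 (by norm_num)
  · rw [fl_of_le L0 (by rw [L0_len]; exact hl)]; exact one_mem _

/-- The group generated by the seven permutations. -/
noncomputable def W0 : Subgroup (Equiv.Perm V) := closure {x | x ∈ L0}

theorem ev_mem_W0 (w : List Nat) : ev L0 w ∈ W0 := by
  induction w with
  | nil => exact one_mem _
  | cons l w ih => rw [ev_cons]; exact mul_mem (mem_closure_fl l) ih

theorem stab_ok : ∀ j : Fin 6, ∀ v : V,
    appN (stabW.getD j.val []) v.val = (McLRankThree.tab (2 * j.val) v).val := by decide +kernel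

theorem M0_le_W0 : M0 ≤ W0 := by
  refine (closure_le _).2 ?_
  rintro x ⟨j, rfl⟩
  have : McLRankThree.pk (2 * j.val) = ev L0 (stabW.getD j.val []) := Equiv.ext fun v => Fin.ext (by
    rw [ev_apply, stab_ok j v, McLRankThree.pk_apply])
  simp only [this]
  exact ev_mem_W0 _

/-- The spanning tree reaches every point. -/
def treeOK : Bool :=
  Nat.beq (treeOrd.getD 0 0) 0 && ((List.range 275).all fun v => treeOrd.contains v) &&
  (List.range treeOrd.length).all fun i => Nat.beq i 0 ||
    (Nat.beq (tabN (treePar.getD i (0, 0)).2 (treePar.getD i (0, 0)).1) (treeOrd.getD i 0) &&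
      (treeOrd.take i).contains (treePar.getD i (0, 0)).1)

theorem tree_ok : treeOK = true := by decide +kernel

theorem W0_transitive (v : V) : ∃ x ∈ W0, (x 0).val = v.val := by
  have h := tree_ok
  simp only [treeOK, Bool.and_eq_true, List.all_eq_true, List.mem_range, Bool.or_eq_true, Nat.beq_eq] at h
  obtain ⟨⟨h0, hall⟩, hstep⟩ := h
  have key : ∀ i, i < treeOrd.length → ∃ x ∈ W0, (x 0).val = treeOrd.getD i 0 := by
    intro i
    induction i using Nat.strong_induction_on with
    | _ i ih =>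
      intro hi
      rcases hstep i hi with rfl | ⟨e, hm⟩
      · exact ⟨1, one_mem _, by rw [h0]; rfl⟩
      · obtain ⟨j, hj, hje⟩ := List.getElem_of_mem (List.contains_iff_mem.1 hm)
        rw [List.length_take] at hj
        rw [List.getElem_take] at hje
        obtain ⟨x, hx, hx0⟩ := ih j (by omega) (by omega)
        refine ⟨fl L0 (treePar.getD i (0, 0)).2 * x, mul_mem (mem_closure_fl _) hx, ?_⟩
        rw [Equiv.Perm.mul_apply, fl_L0_apply, hx0, List.getD_eq_getElem treeOrd _ (show j < treeOrd.length by omega), hje, e]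
  obtain ⟨i, hi, hie⟩ := List.getElem_of_mem (List.contains_iff_mem.1 (hall v.val v.2))
  obtain ⟨x, hx, hx0⟩ := key i hi
  exact ⟨x, hx, by rw [hx0, List.getD_eq_getElem _ _ hi, hie]⟩

theorem W0_eq_M : W0 = M := by
  refine le_antisymm ((closure_le _).2 fun x hx => ?_) fun m hm => ?_
  · obtain ⟨l, hl, rfl⟩ := List.getElem_of_mem hx
    rw [← List.getD_eq_getElem _ 1 hl]
    exact letter_mem_M l
  · obtain ⟨x, hx, hx0⟩ := W0_transitive (m 0)
    have hxM : x ∈ M := (closure_le (K := M)).2 (fun y hy => by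
      obtain ⟨l, hl, rfl⟩ := List.getElem_of_mem hy
      rw [← List.getD_eq_getElem _ 1 hl]
      exact letter_mem_M l) hx
    have : x⁻¹ * m ∈ M0 := McLRankThree.mem_M0 (M.mul_mem (M.inv_mem hxM) hm) (by
      rw [Equiv.Perm.mul_apply, ← Fin.ext hx0]; simp)
    simpa using mul_mem hx (M0_le_W0 this)

theorem simple_M : IsSimpleGroup M := by
  haveI := Cfsg.Agent.McLSimple.simple_mclStab
  exact (MonoidHom.ofInjective McLRankThree.phi_injective).symm.isSimpleGroup

/-- A nontrivial group generated by seven elements satisfying the relators, the first six being an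
image of the six permutations, is the McLaughlin group. -/
theorem nonempty_equiv {G : Type*} [Group G] [Nontrivial G] {L : List G} (h : Rels L)
    (hgen : Subgroup.closure {x | x ∈ L} = ⊤)
    (hH : ∃ f : ↥(subH L0) →* G, ∀ l < 6, ∀ hl, f ⟨fl L0 l, hl⟩ = fl L l)
    (hc : Nat.card (subH L0) ≤ 40320) :
    Nonempty (G ≃* Cfsg.Spor.McL) := by
  classical
  obtain ⟨f, hf⟩ := hH
  let P : List (Equiv.Perm V × G) := (List.range 7).map fun l => (fl L0 l, fl L l)
  have hfl : ∀ l, fl P l = (fl L0 l, fl L l) := fun l => by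
    rcases lt_or_ge l 7 with hl | hl
    · rw [fl, List.getD_eq_getElem _ _ (by simpa [P] using hl)]
      simp [P]
    · rw [fl_of_le P (by simpa [P] using hl), fl_of_le L0 (by rw [L0_len]; exact hl),
        fl_of_le L (by rw [h.len]; exact hl)]
      rfl
  have hev : ∀ w, ev P w = (ev L0 w, ev L w) := fun w => by
    induction w with
    | nil => rfl
    | cons l w ih => rw [ev_cons, hfl, ih, ev_cons, ev_cons]; rfl
  have hP : Rels P := ⟨by simp [P], fun w hw => by rw [hev, rels_L0.rel w hw, h.rel w hw]; rfl⟩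
  let gr : ↥(subH L0) →* Equiv.Perm V × G := (subH L0).subtype.prod f
  have hle : subH P ≤ gr.range := (closure_le _).2 fun x hx => by
    obtain ⟨l, hl, rfl⟩ := List.mem_map.1 hx
    have hl6 : l < 6 := by fin_cases hl <;> decide
    have hm : fl L0 l ∈ subH L0 := subset_closure (List.mem_map.2 ⟨l, hl, rfl⟩)
    exact ⟨⟨fl L0 l, hm⟩, by rw [hfl, ← hf l hl6 hm]; rfl⟩
  haveI : Finite gr.range := Finite.of_surjective gr.rangeRestrict gr.rangeRestrict_surjective
  have hfin : Finite (subH P) := Finite.of_injective _ (inclusion_injective hle)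
  have hcP : Nat.card (subH P) ≤ 40320 :=
    ((Nat.card_le_card_of_injective _ (inclusion_injective hle)).trans
      (Nat.card_le_card_of_surjective gr.rangeRestrict gr.rangeRestrict_surjective)).trans hc
  obtain ⟨hD, hDc⟩ := card_le hP hfin hcP
  let D : Subgroup (Equiv.Perm V × G) := Subgroup.closure {x | x ∈ P}
  haveI : Finite D := hD
  have hfst : D.map (MonoidHom.fst _ _) = M := by
    rw [MonoidHom.map_closure, ← W0_eq_M]
    refine congrArg Subgroup.closure (Set.ext fun x => ⟨?_, fun hx => ?_⟩)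
    · rintro ⟨p, hp, rfl⟩
      obtain ⟨l, hl, rfl⟩ := List.mem_map.1 hp
      show fl L0 l ∈ L0
      rw [fl, List.getD_eq_getElem _ _ (by rw [L0_len]; exact List.mem_range.1 hl)]
      exact List.getElem_mem _
    · obtain ⟨l, hl, rfl⟩ := List.getElem_of_mem hx
      exact ⟨(fl L0 l, fl L l), List.mem_map.2 ⟨l, List.mem_range.2 (L0_len ▸ hl), rfl⟩,
        List.getD_eq_getElem _ 1 hl⟩
  have hsnd : D.map (MonoidHom.snd _ _) = ⊤ := by
    rw [MonoidHom.map_closure, ← top_le_iff, ← hgen]
    refine closure_mono fun x hx => ?_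
    obtain ⟨l, hl, rfl⟩ := List.getElem_of_mem hx
    exact ⟨(fl L0 l, fl L l), List.mem_map.2 ⟨l, List.mem_range.2 (h.len ▸ hl), rfl⟩,
      List.getD_eq_getElem _ 1 hl⟩
  let p : D →* M := ((MonoidHom.fst _ _).comp D.subtype).codRestrict M fun d => by rw [← hfst]; exact ⟨d.1, d.2, rfl⟩
  have psur : Function.Surjective p := fun m => by
    obtain ⟨d, hd, e⟩ : (m : Equiv.Perm V) ∈ D.map (MonoidHom.fst _ _) := by rw [hfst]; exact m.2
    exact ⟨⟨d, hd⟩, Subtype.ext e⟩
  have pbij : Function.Bijective p := by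
    rw [Nat.bijective_iff_surjective_and_card]
    exact ⟨psur, le_antisymm (hDc.trans McLRankThree.card_M.ge) (Nat.card_le_card_of_surjective p psur)⟩
  let q : M →* G := ((MonoidHom.snd _ _).comp D.subtype).comp (MulEquiv.ofBijective p pbij).symm.toMonoidHom
  have qsur : Function.Surjective q := fun g => by
    obtain ⟨d, hd, e⟩ : g ∈ D.map (MonoidHom.snd _ _) := by rw [hsnd]; exact mem_top g
    refine ⟨p ⟨d, hd⟩, ?_⟩
    show (((MulEquiv.ofBijective p pbij).symm (p ⟨d, hd⟩)) : Equiv.Perm V × G).2 = g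
    rw [show p ⟨d, hd⟩ = MulEquiv.ofBijective p pbij ⟨d, hd⟩ from rfl, MulEquiv.symm_apply_apply]
    exact e
  haveI := simple_M
  have qinj : Function.Injective q := by
    rcases q.normal_ker.eq_bot_or_eq_top with e | e
    · exact (MonoidHom.ker_eq_bot_iff q).1 e
    · exfalso
      obtain ⟨g, hg⟩ := exists_ne (1 : G)
      obtain ⟨m, rfl⟩ := qsur g
      exact hg (MonoidHom.mem_ker.1 (e ▸ mem_top m))
  obtain ⟨E⟩ := McLRankThree.M_isMcL
  exact ⟨(MulEquiv.ofBijective q ⟨qinj, qsur⟩).symm.trans E⟩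

end CfsgLib.McLUniq
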