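import Cfsg.Agent.McLUniq.Pair

/-!
# The tests on one class of elementary abelian subgroups of order 16
-/

set_option autoImplicit false
set_option maxRecDepth 100000

namespace CfsgLib.McLUniq

namespace Cl

variable (c : Cl)

/-- The word uses the letters of the involution centralizer only. -/
def inH (w : List Nat) : Bool := w.all fun l => decide (l < 6)

/-- The word uses the generators of the complement only. -/
def inL (wd : List Nat) : Bool := wd.all fun i => decide (i < 2)

/-- The point is moved. -/
def movesW (w : List Nat) (p : Nat) : Bool := !Nat.beq (appN w p) p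

/-- The basis: it starts with the two involutions, is elementary abelian and acts freely on the point. -/
def basisOK : Bool :=
  Nat.beq c.basis.length 4 && c.basis.all inH && inH c.aW && inH c.bW && decide (c.pt < 275) &&
  decide (c.al < 6) &&
  eqW (c.basis.getD 0 []) tW && eqW (c.basis.getD 1 []) sW &&
  ((List.range 4).all fun i => eqW (c.basis.getD i [] ++ c.basis.getD i []) [] &&
    (List.range i).all fun j => eqW (c.basis.getD i [] ++ c.basis.getD j []) (c.basis.getD j [] ++ c.basis.getD i [])) &&
  Nat.beq (appN c.aW c.pt) c.pt && Nat.beq (appN c.bW c.pt) c.pt &&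
  ((List.range 16).all fun v => Nat.beq v 0 || movesW (c.eW v) c.pt)

/-- The action of the generators of the complement. -/
def actOK : Bool :=
  Nat.beq c.gens.length 2 && (List.range 4).all fun i =>
    eqW (c.aW ++ c.basis.getD i []) (c.eW (colM (c.gens.getD 0 idM) i) ++ c.aW) &&
    eqW (c.bW ++ c.basis.getD i []) (c.eW (colM (c.gens.getD 1 idM) i) ++ c.bW)

/-- The letters as pairs. -/
def letsOK : Bool :=
  ([0, 1, 2, 3, c.al] : List Nat).all (fun l => c.lets.any fun e => Nat.beq e.1 l) &&
  c.lets.all (fun e => decide (e.1 < 6) && decide (e.2.1 < 16) && inL e.2.2 &&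
    eqW [e.1] (c.eW e.2.1 ++ c.sub2 e.2.2)) && decide (c.vw < 16) && decide (c.xw < 65536)

/-- The matrix group of the complement: closed, the stabilizer of the first vector, transitive on the
vectors outside the first two. -/
def lbarOK : Bool :=
  c.inBar idM && c.lbar.all (fun e => inL e.2 && Nat.beq (c.mat2 e.2) e.1 && Nat.beq (apM e.1 1) 1 &&
    c.inBar (mulM (c.gens.getD 0 idM) e.1) && c.inBar (mulM (c.gens.getD 1 idM) e.1)) &&
  (List.range 16).all fun v => decide (v < 2) ||
    (c.lbar.any (fun e => Nat.beq (apM e.1 v) 2) && c.lbar.any (fun e => Nat.beq (apM e.1 2) v))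

/-- The other cosets: each leaves the stabilizer. -/
def repsOK : Bool :=
  Nat.beq c.repsInv.length (c.reps.length + 1) &&
  ((List.range (c.reps.length + 1)).all fun j =>
    Nat.beq (mulM ((c.xw :: c.reps.map Prod.fst).getD j 0) (c.repsInv.getD j 0)) idM) &&
  c.reps.all fun e =>
    let g := [c.gens.getD 0 idM, c.gens.getD 1 idM, e.1]
    let Y := e.2.foldr (fun i Z => mulM (g.getD i idM) Z) idM
    e.2.all (fun i => decide (i < 3)) && Nat.beq (apM Y 1) 1 && !c.inBar Y

/-- A matrix code with first column `2` is singular or lies in one of the cosets. -/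
def cosetAt (r : Nat) : Bool :=
  let X := 2 + 16 * r
  (List.range 16).any (fun v => !Nat.beq v 0 && Nat.beq (apM X v) 0) ||
    c.repsInv.any fun R => c.inBar (mulM R X)

/-- The relations of the generators of the complement. -/
def relWords (A B : List Nat) : List (List Nat) :=
  [A ++ A, B ++ B ++ B, (List.replicate 7 (A ++ B)).flatten,
    (List.replicate 4 (A ++ B ++ invW A ++ invW B)).flatten]

/-- Lifts of the generators satisfying the relations are listed, and these are conjugate. -/
def solsOK : Bool :=
  ((List.range 16).all fun u => (List.range 16).all fun v =>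
    c.sols.any (fun e => Nat.beq e.1 u && Nat.beq e.2.1 v) ||
      (relWords (c.eW u ++ c.aW) (c.eW v ++ c.bW)).any fun r => [c.pt, 0, 117, 1].any (movesW r)) &&
  c.sols.all fun e => decide (e.2.2 < 16) &&
    eqW (c.eW e.1 ++ c.aW) (c.eW e.2.2 ++ c.aW ++ c.eW e.2.2) &&
    eqW (c.eW e.2.1 ++ c.bW) (c.eW e.2.2 ++ c.bW ++ c.eW e.2.2)

/-- The relators hold for the pairs, and the last letter is an involution swapping the first two
vectors. -/
def pairsOK : Bool :=
  (relsI ++ c.rls).all (fun r => peq (c.pev r) (0, idM)) && c.rls.all (fun r => r.all fun l => c.letters.contains l) &&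
  peq (c.pev [6, 6]) (0, idM) && Nat.beq (apM c.xw 1) 2 && Nat.beq (apM c.xw 2) 1

end Cl

end CfsgLib.McLUniq
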