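import Cfsg.Agent.McLUniq.Compl

/-!
# The last letter in the normalizer of a class
-/

set_option autoImplicit false
set_option maxRecDepth 100000
set_option linter.unusedSectionVars false

namespace CfsgLib.McLUniq

open Subgroup CfsgLib.Coset

namespace Phi

variable {G : Type*} [Group G] [Finite G] {t : G} (Φ : Phi t) {c : Cl} (hc : ClOK c)

theorem fl_append_lt {w : G} {l : Nat} (hl : l < 6) : fl (Φ.LG ++ [w]) l = Φ.F [l] := by
  rw [show Φ.F [l] = fl Φ.LG l by simp [Phi.F], fl, fl,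
    List.getD_append _ _ _ _ (by rw [Φ.LG_len]; exact hl)]

theorem fl_append_six {w : G} : fl (Φ.LG ++ [w]) 6 = w := by
  rw [fl, List.getD_append_right _ _ _ _ (by rw [Φ.LG_len]), Φ.LG_len]
  rfl

theorem ev_append_F {w : G} {r : List Nat} (hr : W6 r) : ev (Φ.LG ++ [w]) r = Φ.F r := by
  induction r with
  | nil => rw [ev_nil, Φ.F_nil]
  | cons l r ih =>
    rw [ev_cons, Φ.F_cons, Φ.fl_append_lt (hr l List.mem_cons_self),
      ih fun k hk => hr k (List.mem_cons_of_mem _ hk)]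

include hc

/-- The last letter: an involution exchanging the two involutions, satisfying the relators of the class. -/
theorem exists_letter (hd : DTests c) (hrel : c.relMatOK = true)
    (hC : Nat.card (centralizer ({t} : Set G)) = 40320) {g1 : G}
    (hg1 : g1 ∈ Φ.Nrm (c := c)) (h1 : g1 * t * g1⁻¹ = Φ.s) :
    ∃ w : G, (∀ r ∈ c.rls, ev (Φ.LG ++ [w]) r = 1) ∧ w * w = 1 ∧ w * t * w⁻¹ = Φ.s ∧
      w * Φ.s * w⁻¹ = t ∧
      ∀ i, i < dGen.length → w * Φ.F (dGen.getD i []) * w = Φ.F (dImg.getD i []) := by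
  obtain ⟨Q, hQ⟩ := Φ.exists_compl hc hd hrel hC hg1 h1
  obtain ⟨g, hg⟩ := Φ.exists_act_xw hc hd hC hg1 h1
  obtain ⟨v0, hv0, q, hqQ, eg⟩ := hQ.cover g (Φ.mem_nrm_of_mat hc hg)
  have hqM : Φ.IsMat c q c.xw := fun v hv => by
    have h := IsMat.mul Φ hc (Φ.isMat_e hc v0) hg v hv
    rw [apM_mulM, apM_idM (apM_lt _ _)] at h
    rw [← h, eg, ← mul_assoc (Φ.e c v0), Φ.e_sq hc, one_mul]
  obtain ⟨-, -, hvw, hxw⟩ := hc.lets_facts
  set w := Φ.e c c.vw * q with hw
  -- realised pairs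
  set R : G → Nat × Nat → Prop := fun x p =>
    p.1 < 16 ∧ p.2 < 65536 ∧ ∃ y ∈ Q, Φ.IsMat c y p.2 ∧ x = Φ.e c p.1 * y with hR
  have R_one : R 1 (0, idM) :=
    ⟨by norm_num, by show idM < 65536; decide, 1, one_mem _, Φ.isMat_one hc, by rw [Φ.e_zero hc, one_mul]⟩
  have R_w : R w (c.vw, c.xw) := ⟨hvw, hxw, q, hqQ, hqM, hw⟩
  have R_mul : ∀ x y p p', R x p → R y p' → R (x * y) (pmul p p') := by
    rintro x y p p' ⟨h1, -, a, ha, hma, rfl⟩ ⟨h2, -, b, hb, hmb, rfl⟩
    refine ⟨Nat.xor_lt_two_pow (n := 4) h1 (apM_lt _ _), mulM_lt _ _, a * b, mul_mem ha hb,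
      IsMat.mul Φ hc hma hmb, ?_⟩
    rw [pmul, Φ.e_add hc, ← hma p'.1 h2]
    group
  have R_unique : ∀ x y p, R x p → R y p → x = y := by
    rintro x y p ⟨-, -, a, ha, hma, rfl⟩ ⟨-, -, b, hb, hmb, rfl⟩
    congr 1
    refine inv_mul_eq_one.1 (hQ.inter _ (mul_mem (inv_mem ha) hb) (Φ.cent_E hc hd hC fun v hv => ?_))
    rw [← mul_inv_eq_iff_eq_mul]
    calc a⁻¹ * b * Φ.e c v * (a⁻¹ * b)⁻¹ = a⁻¹ * (b * Φ.e c v * b⁻¹) * a := by group
      _ = a⁻¹ * (a * Φ.e c v * a⁻¹) * a := by rw [hma v hv, hmb v hv]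
      _ = Φ.e c v := by group
  have R_let : ∀ l ∈ c.letters, R (fl (Φ.LG ++ [w]) l) (c.letP l) := by
    intro l hl
    by_cases h6 : l = 6
    · subst h6
      rw [Φ.fl_append_six]
      exact R_w
    · have hl' : l ∈ ([0, 1, 2, 3, c.al] : List Nat) := by
        simp only [Cl.letters, List.mem_cons, List.not_mem_nil, or_false] at hl ⊢
        tauto
      have hp := Φ.pair_letter hc hl'
      have hl6 : l < 6 := by
        obtain ⟨hex, hall, -, -⟩ := hc.lets_facts
        obtain ⟨e, he, rfl⟩ := hex l hl'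
        exact (hall e he).1
      rw [Φ.fl_append_lt hl6]
      obtain ⟨h1', wd, hwd, e2, e⟩ := hp
      exact ⟨h1', e2 ▸ mat2_lt _ _, _, Φ.sub2_mem hc hQ wd, e2 ▸ Φ.isMat_sub2 hc wd hwd, e⟩
  have R_ev : ∀ r : List Nat, (∀ l ∈ r, l ∈ c.letters) → R (ev (Φ.LG ++ [w]) r) (c.pev r) := by
    intro r
    induction r with
    | nil => intro _; rw [ev_nil]; exact R_one
    | cons l r ih =>
      intro h
      rw [ev_cons]
      exact R_mul _ _ _ _ (R_let l (h l List.mem_cons_self)) (ih fun k hk => h k (List.mem_cons_of_mem _ hk))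
  have hp := hc.pairsT
  simp only [Cl.pairsOK, Bool.and_eq_true, List.all_eq_true, List.contains_iff_mem, List.mem_append,
    Nat.beq_eq] at hp
  obtain ⟨⟨⟨⟨hrels, hlets⟩, hww⟩, hx1⟩, hx2⟩ := hp
  have e66 : w * w = 1 := by
    have h := R_ev [6, 6] (fun l hl => by simp only [List.mem_cons, List.not_mem_nil, or_false, or_self] at hl; simp [hl, Cl.letters])
    rw [eq_of_peq hww, ev_cons, ev_cons, ev_nil, Φ.fl_append_six, mul_one] at h
    exact R_unique _ _ _ h R_one
  have hwi : w⁻¹ = w := inv_eq_of_mul_eq_one_right e66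
  have hwM : ∀ v, v < 16 → w * Φ.e c v * w⁻¹ = Φ.e c (apM c.xw v) := fun v hv => by
    have h := IsMat.mul Φ hc (Φ.isMat_e hc c.vw) hqM v hv
    rwa [apM_mulM, apM_idM (apM_lt _ _)] at h
  refine ⟨w, fun r hr => ?_, e66, ?_, ?_, fun i hi => ?_⟩
  · have h := R_ev r (hlets r hr)
    rw [eq_of_peq (hrels r (Or.inr hr))] at h
    exact R_unique _ _ _ h R_one
  · have h := hwM 1 (by norm_num)
    rw [hx1, Φ.e_one hc, Φ.e_two hc] at h
    exact h
  · have h := hwM 2 (by norm_num)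
    rw [hx2, Φ.e_one hc, Φ.e_two hc] at h
    exact h
  · have hg' := hd.gen
    simp only [dGenOK, Bool.and_eq_true, List.all_eq_true, List.mem_range, Nat.beq_eq] at hg'
    obtain ⟨⟨⟨hlen, hgK⟩, hiK⟩, hconj⟩ := hg'
    have k1 : inK (dGen.getD i []) = true := by
      rw [List.getD_eq_getElem _ _ hi]; exact hgK _ (List.getElem_mem _)
    have k2 : inK (dImg.getD i []) = true := by
      rw [List.getD_eq_getElem _ _ (show i < dImg.length by omega)]; exact hiK _ (List.getElem_mem _)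
    have lsub : ∀ r : List Nat, inK r = true → ∀ l ∈ r, l ∈ c.letters := fun r hr l hl => by
      have := inK_sub hr c.al l hl
      simp only [Cl.letters, List.mem_cons, List.not_mem_nil, or_false] at this ⊢
      tauto
    have h := R_ev ([6] ++ dGen.getD i [] ++ [6]) (fun l hl => by
      simp only [List.mem_append, List.mem_cons, List.not_mem_nil, or_false] at hl
      rcases hl with (rfl | h) | rfl
      · simp [Cl.letters]
      · exact lsub _ k1 l h
      · simp [Cl.letters])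
    rw [eq_of_peq (hconj i hi)] at h
    have e := R_unique _ _ _ h (R_ev _ (lsub _ k2))
    rw [ev_append, ev_append, Φ.ev_append_F (W6.of_inK k1), Φ.ev_append_F (W6.of_inK k2)] at e
    simpa [ev_cons, Φ.fl_append_six] using e

end Phi

end CfsgLib.McLUniq
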