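import Cfsg.Agent.McLUniq.ClTests

/-!
# The tests on the involution centralizer, the centralizer of two involutions and a Sylow subgroup
-/

set_option autoImplicit false
set_option maxRecDepth 100000

namespace CfsgLib.McLUniq

/-- The word uses the first four letters only. -/
def inK (w : List Nat) : Bool := w.all fun l => decide (l < 4)

/-- A word in the elements of `xW` and the central involution as a word in the letters. -/
def subX (w : List Nat) : List Nat := w.flatMap fun i => if Nat.beq i 6 then tW else xW.getD i []

/-- The relations of Carmichael modulo the central involution. -/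
def coverOK : Bool :=
  Nat.beq xW.length 6 && xW.all Cl.inH && Cl.inH tW && Cl.inH sW && Cl.inH stW &&
  eqW (tW ++ tW) [] && !eqW tW [] && !eqW (xW.getD 0 []) [] &&
  (List.range 6).all (fun i =>
    eqW (xW.getD i [] ++ xW.getD i [] ++ xW.getD i []) [] && eqW (xW.getD i [] ++ tW) (tW ++ xW.getD i []) &&
    (List.range 6).all fun j => Nat.beq i j ||
      eqW ((xW.getD i [] ++ xW.getD j []) ++ (xW.getD i [] ++ xW.getD j [])) tW)

/-- The letters and the noncentral involution in terms of `xW`. -/
def coverGenOK : Bool :=
  Nat.beq letX.length 6 && (List.range 6).all (fun l =>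
    eqW [l] (subX (letX.getD l [])) && (letX.getD l []).all fun i => decide (i < 7)) &&
  eqW sW (subX sX) && sX.all (fun i => decide (i < 7)) &&
  eqW (stW ++ sW ++ tW) (sW ++ stW) && eqW (sW ++ sW) [] && !eqW sW [] && !eqW sW tW

/-- The conjugates of the noncentral involution are different. -/
def orbKeys : List (List Nat) := orbW.map fun r => keyW keyS (r ++ sW ++ invW r)

/-- The class has at least 210 members. -/
def orbOK : Bool :=
  Nat.beq orbW.length 210 && orbW.all Cl.inH && keyS.all (fun p => decide (p < 275)) &&
  (List.range 210).all fun i => (List.range i).all fun j => !((orbKeys.getD i []) == (orbKeys.getD j []))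

/-- The pairs of the centralizer of the two involutions. -/
def dP (c : Cl) : List (Nat × Nat) := dW.map c.pev

/-- Commutation of two pairs. -/
def pcomm (p q : Nat × Nat) : Bool := peq (pmul p q) (pmul q p)

/-- The centralizer of the two involutions in pairs. -/
def dOK (c : Cl) : Bool :=
  Nat.beq dW.length 192 && dW.all inK &&
  ((List.range 192).all fun i => (List.range i).all fun j => !peq ((dP c).getD i (0, 0)) ((dP c).getD j (0, 0))) &&
  (dP c).all (fun p => pcomm p (2, idM) && c.inBar p.2)

/-- The action of the last letter on the generators of this centralizer. -/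
def dGenOK (c : Cl) : Bool :=
  Nat.beq dGen.length dImg.length && dGen.all inK && dImg.all inK &&
  (List.range dGen.length).all fun i => peq (c.pev ([6] ++ dGen.getD i [] ++ [6])) (c.pev (dImg.getD i []))

/-- Only four elements centralize the images. -/
def dCentOK : Bool :=
  (dP one).all fun p => !(dImg.all fun g => pcomm p (one.pev g)) || (Nat.beq p.2 idM && decide (p.1 < 4))

/-- The vector part of a pair is in the four group of the first two vectors. -/
def inFour (p : Nat × Nat) : Bool := Nat.beq p.2 idM && decide (p.1 < 4)

/-- Two commuting involutions completing the two first vectors to an elementary group of order 16 lie in one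
of the two subgroups. -/
def gammaOK : Bool :=
  (List.range 192).all fun i =>
    let p := (dP one).getD i (0, 0)
    let P := (dP two).getD i (0, 0)
    !peq (pmul p p) (0, idM) || inFour p ||
    (List.range 192).all fun j =>
      let q := (dP one).getD j (0, 0)
      let Q := (dP two).getD j (0, 0)
      !peq (pmul q q) (0, idM) || !pcomm p q || inFour q || inFour (pmul p q) ||
        (Nat.beq p.2 idM && Nat.beq q.2 idM) || (Nat.beq P.2 idM && Nat.beq Q.2 idM)

/-- The pairs of the Sylow subgroup. -/
def sylP : List (Nat × Nat) := sylW.map fun w => one.pev (w.flatMap fun i => sylGen.getD i [])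

/-- The Sylow subgroup: 128 elements, closed, containing both involutions, centralizer of order two. -/
def sylOK : Bool :=
  Nat.beq sylW.length 128 && sylGen.all inK && sylW.all (fun w => w.all fun i => decide (i < sylGen.length)) &&
  sSyl.all (fun i => decide (i < sylGen.length)) &&
  ((List.range 128).all fun i => (List.range i).all fun j => !peq (sylP.getD i (0, 0)) (sylP.getD j (0, 0))) &&
  sylP.any (peq (0, idM)) && sylP.any (peq (1, idM)) &&
  sylP.all (fun p => sylGen.all fun g => sylP.any (peq (pmul p (one.pev g)))) &&
  peq (one.pev (sSyl.flatMap fun i => sylGen.getD i [])) (2, idM) &&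
  (dP one).all fun p => !(sylGen.all fun g => pcomm p (one.pev g)) || (Nat.beq p.2 idM && decide (p.1 < 2))

/-- The two subgroups differ. -/
def differOK : Bool :=
  (List.range 16).all fun v => [one.pt, two.pt, 0, 117, 1].any fun p =>
    !Nat.beq (appN (two.eW 4) p) (appN (one.eW v) p)

end CfsgLib.McLUniq
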