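import Cfsg.Agent.ZStar.Final
import Cfsg.Agent.DGroup.Fusion
import Cfsg.Agent.Solvable.GaschutzLocal

/-!
Two general facts used for the local analysis of McLaughlin's group: a group with an isolated
involution is the product of its centralizer and the odd core, and an elementary abelian normal
2-subgroup with a complement in a subgroup of odd index has a complement.
-/

set_option autoImplicit false
set_option linter.style.haveILetI false

namespace CfsgLib.McLUniq

open Subgroup

/-- Glauberman's theorem in product form: `G = C(t) O(G)` for an isolated involution `t`. -/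
theorem sup_oddCore_of_isolated {G : Type*} [Group G] [Finite G] {t : G} (ht : orderOf t = 2)
    (h : ∀ g : G, Commute t (g * t * g⁻¹) → g * t * g⁻¹ = t) :
    centralizer ({t} : Set G) ⊔ Cfsg.oddCore G = ⊤ := by
  obtain ⟨N, hN, hNo, hc⟩ := CfsgLib.ZStar.zstar ⟨ht, h⟩
  have htt : t * t = 1 := by rw [← sq, ← ht, pow_orderOf_eq_one]
  have hti : t⁻¹ = t := inv_eq_of_mul_eq_one_right htt
  rw [eq_top_iff]
  intro g _
  set i := g * t * g⁻¹ * t with hi
  have hiN : i ∈ N := by
    have e : i = (t * g * t⁻¹ * g⁻¹)⁻¹ := by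
      rw [hi]
      simp only [mul_inv_rev, inv_inv, hti, mul_assoc]
    rw [e]
    exact N.inv_mem (hc g)
  have hzi : t * i * t = i⁻¹ := by
    rw [hi, mul_inv_rev, mul_inv_rev, mul_inv_rev, inv_inv, hti]
    simp only [mul_assoc, htt, mul_one]
  obtain ⟨k, hk⟩ : Odd (orderOf i) := by
    refine Odd.of_dvd_nat hNo ?_
    rw [← Subgroup.orderOf_mk i hiN]
    exact orderOf_dvd_natCard _
  have hzj : t * i ^ (k + 1) * t = (i ^ (k + 1))⁻¹ := by
    have e : ∀ x : G, MulAut.conj t x = t * x * t := fun x => by rw [MulAut.conj_apply, hti]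
    rw [← e, map_pow, e, hzi, inv_pow]
  have hj2 : i ^ (k + 1) * i ^ (k + 1) = i := by
    rw [← pow_add, show k + 1 + (k + 1) = orderOf i + 1 by omega, pow_succ, pow_orderOf_eq_one,
      one_mul]
  have hjz : t * i ^ (k + 1) = (i ^ (k + 1))⁻¹ * t := by
    rw [← hzj, mul_assoc, htt, mul_one]
  have hjc : (i ^ (k + 1))⁻¹ * g ∈ centralizer ({t} : Set G) := by
    rw [mem_centralizer_singleton_iff, ← mul_inv_eq_iff_eq_mul]
    calc (i ^ (k + 1))⁻¹ * g * t * ((i ^ (k + 1))⁻¹ * g)⁻¹
        = (i ^ (k + 1))⁻¹ * (i * t⁻¹) * i ^ (k + 1) := by rw [hi]; group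
      _ = (i ^ (k + 1))⁻¹ * i * (t * i ^ (k + 1)) := by rw [hti]; group
      _ = (i ^ (k + 1))⁻¹ * (i * (i ^ (k + 1))⁻¹) * t := by rw [hjz]; group
      _ = (i ^ (k + 1))⁻¹ * i ^ (k + 1) * t := by
          rw [show i * (i ^ (k + 1))⁻¹ = i ^ (k + 1) by rw [mul_inv_eq_iff_eq_mul, hj2]]
      _ = t := by group
  rw [show g = i ^ (k + 1) * ((i ^ (k + 1))⁻¹ * g) by group]
  exact mul_mem (mem_sup_right (CfsgLib.DGroup.le_oddCore hN hNo (pow_mem hiN _)))
    (mem_sup_left hjc)

/-- An elementary abelian normal 2-subgroup with a complement in a subgroup of odd index has a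
complement. -/
theorem exists_complement_over {N : Type*} [Group N] [Finite N] (A U : Subgroup N) [A.Normal]
    (hc : ∀ a ∈ A, ∀ b ∈ A, a * b = b * a) (h2 : ∀ a ∈ A, a * a = 1) (hAU : A ≤ U)
    (hodd : Odd U.index) {K : Subgroup N} (hdis : K ⊓ A = ⊥) (hsup : K ⊔ A = U) :
    ∃ Q : Subgroup N, Q.IsComplement' A := by
  haveI : IsMulCommutative A := ⟨⟨fun a b => Subtype.ext (hc a a.2 b b.2)⟩⟩
  obtain ⟨D, hD, hDa⟩ := CfsgLib.GaschutzLocal.hasPowerDerivation_index A U K hAU hdis hsup
  refine CfsgLib.GaschutzLocal.complement_of_hasPowerDerivation A ⟨D, hD, fun a => ?_⟩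
  obtain ⟨k, hk⟩ := hodd
  rw [hDa, zpow_one, hk, zpow_natCast, pow_succ, pow_mul,
    show a ^ 2 = 1 from Subtype.ext (by rw [sq]; exact h2 a a.2), one_pow, one_mul]

end CfsgLib.McLUniq
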