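import Cfsg.Agent.McLUniq.ClTests

/-!
# The relations of the generators of the complement hold for their matrices
-/

set_option autoImplicit false
set_option maxRecDepth 100000
set_option Elab.async false

namespace CfsgLib.McLUniq

/-- The relation words in the two generators, the inverses written as positive powers. -/
def relL : List (List Nat) :=
  [[0, 0], [1, 1, 1], (List.replicate 7 [0, 1]).flatten, (List.replicate 4 [0, 1, 0, 1, 1]).flatten]

/-- The relations of the generators hold for their matrices. -/
def Cl.relMatOK (c : Cl) : Bool :=
  relL.all fun wd => Cl.inL wd && Nat.beq (c.mat2 wd) idM

theorem one_relMat : one.relMatOK = true := by decide +kernel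
theorem two_relMat : two.relMatOK = true := by decide +kernel

end CfsgLib.McLUniq
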