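import Cfsg.Agent.McLUniq.Normal
import Cfsg.Agent.McLUniq.MatRels
import Cfsg.Agent.McLUniq.General

/-!
# The complement in the normalizer and the relators of a class
-/

set_option autoImplicit false
set_option maxRecDepth 100000
set_option linter.unusedSectionVars false
set_option linter.style.haveILetI false

namespace CfsgLib.McLUniq

open Subgroup CfsgLib.Coset

theorem W6.flatten {w : List Nat} (hw : W6 w) (n : Nat) : W6 ((List.replicate n w).flatten) := fun l hl => by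
  obtain ⟨v, hv, hlv⟩ := List.mem_flatten.1 hl
  exact hw l (List.eq_of_mem_replicate hv ▸ hlv)

theorem ev_flatten_replicate {H : Type*} [Group H] (L : List H) (w : List Nat) (n : Nat) :
    ev L (List.replicate n w).flatten = ev L w ^ n := by
  induction n with
  | zero => simp
  | succ n ih => rw [List.replicate_succ, List.flatten_cons, ev_append, ih, pow_succ']

namespace Phi

variable {G : Type*} [Group G] [Finite G] {t : G} (Φ : Phi t) {c : Cl} (hc : ClOK c)

/-- A complement in the normalizer, containing the two generators. -/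
structure Compl (Φ : Phi t) (c : Cl) (Q : Subgroup G) : Prop where
  le : Q ≤ Φ.Nrm (c := c)
  inter : ∀ q ∈ Q, Φ.InE c q → q = 1
  cover : ∀ g ∈ Φ.Nrm (c := c), ∃ v, v < 16 ∧ ∃ q ∈ Q, g = Φ.e c v * q
  aW_mem : Φ.F c.aW ∈ Q
  bW_mem : Φ.F c.bW ∈ Q

include hc

theorem sub2_mem {Q : Subgroup G} (hQ : Compl Φ c Q) : ∀ wd : List Nat, Φ.F (c.sub2 wd) ∈ Q
  | [] => by
    have e : Φ.F (c.sub2 []) = 1 := Φ.F_nil
    rw [e]; exact one_mem Q
  | a :: wd => by
    have e : c.sub2 (a :: wd) = (if Nat.beq a 0 then c.aW else c.bW) ++ c.sub2 wd := by simp [Cl.sub2]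
    rw [e, F_append]
    refine mul_mem ?_ (sub2_mem hQ wd)
    split
    · exact hQ.aW_mem
    · exact hQ.bW_mem

/-- A complement containing the generators exists. -/
theorem exists_compl (hd : DTests c) (hrel : c.relMatOK = true)
    (hC : Nat.card (centralizer ({t} : Set G)) = 40320) {g1 : G}
    (hg1 : g1 ∈ Φ.Nrm (c := c)) (h1 : g1 * t * g1⁻¹ = Φ.s) :
    ∃ Q, Compl Φ c Q := by
  set N := Φ.Nrm (c := c)
  set A : Subgroup N := (Φ.Esub hc).subgroupOf N
  set U : Subgroup N := (centralizer ({t} : Set G)).subgroupOf N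
  haveI hA : A.Normal := ⟨fun a ha g => by
    obtain ⟨v, hv, e⟩ := Subgroup.mem_subgroupOf.1 ha
    show (g : G) * (a : G) * (g : G)⁻¹ ∈ Φ.Esub hc
    rw [e]
    exact g.2.1 v hv⟩
  obtain ⟨hAg, hBg⟩ := Φ.gens_mat hc
  set K0 := Subgroup.closure ({Φ.F c.aW, Φ.F c.bW} : Set G)
  have hK0 : ∀ k ∈ K0, ∃ wd, Cl.inL wd = true ∧ k = Φ.F (c.sub2 wd) := by
    intro k hk
    induction hk using Subgroup.closure_induction with
    | mem y hy =>
      rcases hy with rfl | rfl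
      · exact ⟨[0], rfl, by simp [Cl.sub2]⟩
      · exact ⟨[1], rfl, by simp [Cl.sub2]⟩
    | one => exact ⟨[], rfl, by simp [Cl.sub2, Φ.F_nil]⟩
    | mul a b _ _ ha hb =>
      obtain ⟨u, hu, rfl⟩ := ha
      obtain ⟨w, hw, rfl⟩ := hb
      refine ⟨u ++ w, ?_, ?_⟩
      · simp only [Cl.inL, List.all_append, Bool.and_eq_true] at *
        exact ⟨hu, hw⟩
      · rw [show c.sub2 (u ++ w) = c.sub2 u ++ c.sub2 w by simp [Cl.sub2], F_append]
    | inv a _ ha =>
      obtain ⟨u, hu, rfl⟩ := ha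
      set k := Φ.F (c.sub2 u)
      have hp : ∀ n : Nat, ∃ w, Cl.inL w = true ∧ k ^ n = Φ.F (c.sub2 w) := by
        intro n
        induction n with
        | zero => exact ⟨[], rfl, by simp [Cl.sub2, Φ.F_nil]⟩
        | succ n ih =>
          obtain ⟨w, hw, e⟩ := ih
          refine ⟨w ++ u, ?_, ?_⟩
          · simp only [Cl.inL, List.all_append, Bool.and_eq_true] at *
            exact ⟨hw, hu⟩
          · rw [pow_succ, e, show c.sub2 (w ++ u) = c.sub2 w ++ c.sub2 u by simp [Cl.sub2], F_append]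
      obtain ⟨w, hw, e⟩ := hp (orderOf k - 1)
      refine ⟨w, hw, ?_⟩
      rw [← e]
      refine inv_eq_of_mul_eq_one_left ?_
      rw [← pow_succ, Nat.sub_add_cancel (orderOf_pos k), pow_orderOf_eq_one]
  have hK0N : K0 ≤ N := (Subgroup.closure_le _).2 fun y hy => by
    rcases hy with rfl | rfl
    · exact Φ.mem_nrm_of_mat hc hAg
    · exact Φ.mem_nrm_of_mat hc hBg
  set K : Subgroup N := K0.subgroupOf N
  have hdis : K ⊓ A = ⊥ := by
    rw [eq_bot_iff]
    rintro x ⟨hxK, hxA⟩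
    obtain ⟨wd, hwd, e⟩ := hK0 _ (Subgroup.mem_subgroupOf.1 hxK)
    obtain ⟨v, hv, e'⟩ := Subgroup.mem_subgroupOf.1 hxA
    have h0 : appN (c.eW v) c.pt = c.pt := by
      rw [← appN_eq_of_ev ((Φ.F_eq_iff (hc.sub2_W6 wd) (hc.eW_W6 v)).1 (e.symm.trans e'))
        hc.basis_facts.2.2.2.2.1]
      exact hc.sub2_pt wd
    obtain rfl := hc.eW_free hv h0
    rw [Subgroup.mem_bot]
    exact Subtype.ext (e'.trans (Φ.e_zero hc))
  have hsup : K ⊔ A = U := by
    refine le_antisymm (sup_le ?_ ?_) fun x hx => ?_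
    · intro k hk
      obtain ⟨wd, -, e⟩ := hK0 _ (Subgroup.mem_subgroupOf.1 hk)
      refine Subgroup.mem_subgroupOf.2 ?_
      rw [e]
      exact Φ.F_mem (hc.sub2_W6 wd)
    · intro a ha
      refine Subgroup.mem_subgroupOf.2 ?_
      exact InE.mem Φ hc (Subgroup.mem_subgroupOf.1 ha)
    · obtain ⟨v, wd, hv, hwd, e⟩ := Φ.nrm_cent_bar hc hd hC x.2 (Subgroup.mem_subgroupOf.1 hx)
      have hvN : Φ.e c v ∈ N := Φ.mem_nrm_of_mat hc (Φ.isMat_e hc v)
      have hkN : Φ.F (c.sub2 wd) ∈ N := Φ.mem_nrm_of_mat hc (Φ.isMat_sub2 hc wd hwd)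
      rw [show x = (⟨_, hvN⟩ : N) * ⟨_, hkN⟩ from Subtype.ext e]
      refine mul_mem (mem_sup_right (Subgroup.mem_subgroupOf.2 ⟨v, hv, rfl⟩)) (mem_sup_left ?_)
      refine Subgroup.mem_subgroupOf.2 ?_
      show Φ.F (c.sub2 wd) ∈ K0
      induction wd with
      | nil =>
        have e : Φ.F (c.sub2 []) = 1 := Φ.F_nil
        rw [e]; exact one_mem _
      | cons a wd ih =>
        clear e hkN hwd
        have e : c.sub2 (a :: wd) = (if Nat.beq a 0 then c.aW else c.bW) ++ c.sub2 wd := by simp [Cl.sub2]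
        rw [e, F_append]
        refine mul_mem ?_ ?_
        · split
          · exact Subgroup.subset_closure (by simp)
          · exact Subgroup.subset_closure (by simp)
        · clear ih
          induction wd with
          | nil =>
            have e : Φ.F (c.sub2 []) = 1 := Φ.F_nil
            rw [e]; exact one_mem _
          | cons b wd ih' =>
            have e : c.sub2 (b :: wd) = (if Nat.beq b 0 then c.aW else c.bW) ++ c.sub2 wd := by simp [Cl.sub2]
            rw [e, F_append]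
            refine mul_mem ?_ (ih' (by simp [Cl.sub2]))
            split
            · exact Subgroup.subset_closure (by simp)
            · exact Subgroup.subset_closure (by simp)
  have hodd : Odd U.index := by
    rw [Φ.index_cent hc hd hC hg1 h1]
    decide
  obtain ⟨Q, hQ⟩ := exists_complement_over A U
    (fun a ha b hb => Subtype.ext (by
      obtain ⟨v, -, e⟩ := Subgroup.mem_subgroupOf.1 ha
      obtain ⟨u, -, e'⟩ := Subgroup.mem_subgroupOf.1 hb
      rw [Subgroup.coe_mul, Subgroup.coe_mul, e, e', Φ.e_comm hc]))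
    (fun a ha => Subtype.ext (by
      obtain ⟨v, -, e⟩ := Subgroup.mem_subgroupOf.1 ha
      rw [Subgroup.coe_mul, e, Φ.e_sq hc]; rfl))
    (fun a ha => Subgroup.mem_subgroupOf.2 (InE.mem Φ hc (Subgroup.mem_subgroupOf.1 ha)))
    hodd hdis hsup
  set Q0 := Q.map N.subtype
  have hQle : Q0 ≤ N := by
    rintro _ ⟨q, -, rfl⟩; exact q.2
  have hinter : ∀ q ∈ Q0, Φ.InE c q → q = 1 := by
    rintro _ ⟨q, hq, rfl⟩ hE
    have : q ∈ Q ⊓ A := ⟨hq, Subgroup.mem_subgroupOf.2 hE⟩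
    rw [hQ.disjoint.eq_bot, Subgroup.mem_bot] at this
    rw [this]; rfl
  have hcover : ∀ g ∈ N, ∃ v, v < 16 ∧ ∃ q ∈ Q0, g = Φ.e c v * q := by
    intro g hg
    have hmem : (⟨g, hg⟩ : N) ∈ A ⊔ Q := by rw [sup_comm, hQ.sup_eq_top]; exact mem_top _
    rw [← SetLike.mem_coe, Subgroup.normal_mul] at hmem
    obtain ⟨a, ha, q, hq, e⟩ := hmem
    obtain ⟨v, hv, e'⟩ := Subgroup.mem_subgroupOf.1 ha
    refine ⟨v, hv, q, ⟨q, hq, rfl⟩, ?_⟩
    rw [← e']
    exact (congrArg Subtype.val e).symm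
  -- the lifts of the two generators
  obtain ⟨u, hu, qa, hqa, ea⟩ := hcover _ (Φ.mem_nrm_of_mat hc hAg)
  obtain ⟨v, hv, qb, hqb, eb⟩ := hcover _ (Φ.mem_nrm_of_mat hc hBg)
  have eqa : Φ.F (c.eW u ++ c.aW) = qa := by
    rw [F_append]; change Φ.e c u * _ = _; rw [ea, ← mul_assoc, Φ.e_sq hc, one_mul]
  have eqb : Φ.F (c.eW v ++ c.bW) = qb := by
    rw [F_append]; change Φ.e c v * _ = _; rw [eb, ← mul_assoc, Φ.e_sq hc, one_mul]
  have hqaM : Φ.IsMat c qa (c.gens.getD 0 idM) := fun w hw => by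
    rw [← eqa, F_append]
    have h := IsMat.mul Φ hc (Φ.isMat_e hc u) hAg w hw
    rw [apM_mulM, apM_idM (apM_lt _ _)] at h
    exact h
  have hqbM : Φ.IsMat c qb (c.gens.getD 1 idM) := fun w hw => by
    rw [← eqb, F_append]
    have h := IsMat.mul Φ hc (Φ.isMat_e hc v) hBg w hw
    rw [apM_mulM, apM_idM (apM_lt _ _)] at h
    exact h
  have htriv : ∀ wd ∈ relL, ev [qa, qb] wd = 1 := by
    intro wd hwd
    simp only [Cl.relMatOK, List.all_eq_true, Bool.and_eq_true] at hrel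
    obtain ⟨hL, hm⟩ := hrel wd hwd
    have key : ∀ w : List Nat, Cl.inL w = true → ev [qa, qb] w ∈ Q0 ∧ Φ.IsMat c (ev [qa, qb] w) (c.mat2 w) := by
      intro w
      induction w with
      | nil => intro _; rw [ev_nil]; exact ⟨one_mem _, Φ.isMat_one hc⟩
      | cons a w ih =>
        intro h
        simp only [Cl.inL, List.all_cons, Bool.and_eq_true, decide_eq_true_eq] at h
        obtain ⟨i1, i2⟩ := ih (by simpa [Cl.inL] using h.2)
        rw [ev_cons, mat2_cons]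
        have ha := h.1
        interval_cases a
        · exact ⟨mul_mem hqa i1, IsMat.mul Φ hc hqaM i2⟩
        · exact ⟨mul_mem hqb i1, IsMat.mul Φ hc hqbM i2⟩
    obtain ⟨k1, k2⟩ := key wd hL
    rw [Nat.eq_of_beq_eq_true hm] at k2
    refine hinter _ k1 (Φ.cent_E hc hd hC fun w hw => ?_)
    have := k2 w hw
    rw [apM_idM hw, mul_inv_eq_iff_eq_mul] at this
    exact this
  have r1 : qa * qa = 1 := by simpa [relL, fl] using htriv [0, 0] (by simp [relL])
  have r2 : qb * qb * qb = 1 := by simpa [relL, fl, mul_assoc] using htriv [1, 1, 1] (by simp [relL])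
  have r3 : (qa * qb) ^ 7 = 1 := by
    rw [← htriv (List.replicate 7 [0, 1]).flatten (by simp [relL]), ev_flatten_replicate]
    simp [fl]
  have r4 : (qa * qb * qa * (qb * qb)) ^ 4 = 1 := by
    rw [← htriv (List.replicate 4 [0, 1, 0, 1, 1]).flatten (by simp [relL]), ev_flatten_replicate]
    simp [fl, mul_assoc]
  have hwA : W6 (c.eW u ++ c.aW) := (hc.eW_W6 u).append hc.aW_W6
  have hwB : W6 (c.eW v ++ c.bW) := (hc.eW_W6 v).append hc.bW_W6
  have hqai : qa⁻¹ = qa := inv_eq_of_mul_eq_one_right r1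
  have hqbi : qb⁻¹ = qb * qb := inv_eq_of_mul_eq_one_right (by rw [← mul_assoc]; exact r2)
  have hrw : ∀ r ∈ Cl.relWords (c.eW u ++ c.aW) (c.eW v ++ c.bW), W6 r ∧ Φ.F r = 1 := by
    intro r hr
    simp only [Cl.relWords, List.mem_cons, List.not_mem_nil, or_false] at hr
    rcases hr with rfl | rfl | rfl | rfl
    · exact ⟨hwA.append hwA, by rw [F_append, eqa, r1]⟩
    · exact ⟨(hwB.append hwB).append hwB, by rw [F_append, F_append, eqb, r2]⟩
    · exact ⟨W6.flatten (hwA.append hwB) 7, by rw [Phi.F, ev_flatten_replicate, ← Phi.F, F_append, eqa, eqb, r3]⟩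
    · refine ⟨W6.flatten (((hwA.append hwB).append hwA.invW).append hwB.invW) 4, ?_⟩
      rw [Phi.F, ev_flatten_replicate, ← Phi.F, F_append, F_append, F_append, Φ.F_invW hwA, Φ.F_invW hwB, eqa, eqb,
        hqai, hqbi, r4]
  have hsols := hc.solsT
  simp only [Cl.solsOK, Bool.and_eq_true, List.all_eq_true, List.mem_range, Bool.or_eq_true,
    List.any_eq_true, Nat.beq_eq, decide_eq_true_eq, Cl.movesW, Bool.not_eq_true'] at hsols
  rcases hsols.1 u hu v hv with ⟨e, he, e1, e2⟩ | ⟨r, hr, p, hp, hmv⟩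
  swap
  · exfalso
    obtain ⟨hrW, hr1⟩ := hrw r hr
    have hp' : p < 275 := by
      simp only [List.mem_cons, List.not_mem_nil, or_false] at hp
      rcases hp with rfl | rfl | rfl | rfl
      · exact hc.basis_facts.2.2.2.2.1
      all_goals norm_num
    have := appN_eq_of_ev ((Φ.F_eq_iff hrW W6.nil).1 (hr1.trans Φ.F_nil.symm)) hp'
    rw [this] at hmv
    simp [appN] at hmv
  obtain ⟨⟨hq16, hqA⟩, hqB⟩ := hsols.2 e he
  rw [e1] at hqA
  rw [e2] at hqB
  set q := e.2.2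
  have cA : Φ.e c q * Φ.F c.aW * Φ.e c q = qa := by
    rw [← eqa, Φ.F_congr ((hc.eW_W6 u).append hc.aW_W6) (((hc.eW_W6 q).append hc.aW_W6).append (hc.eW_W6 q)) hqA]
    simp [F_append, Phi.e, mul_assoc]
  have cB : Φ.e c q * Φ.F c.bW * Φ.e c q = qb := by
    rw [← eqb, Φ.F_congr ((hc.eW_W6 v).append hc.bW_W6) (((hc.eW_W6 q).append hc.bW_W6).append (hc.eW_W6 q)) hqB]
    simp [F_append, Phi.e, mul_assoc]
  refine ⟨Q0.map (MulAut.conj (Φ.e c q)).toMonoidHom, ?_, ?_, ?_, ?_, ?_⟩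
  · rintro _ ⟨x, hx, rfl⟩
    exact mul_mem (mul_mem (Φ.mem_nrm_of_mat hc (Φ.isMat_e hc q)) (hQle hx))
      (inv_mem (Φ.mem_nrm_of_mat hc (Φ.isMat_e hc q)))
  · rintro _ ⟨x, hx, rfl⟩ hE
    obtain ⟨w, hw, ew⟩ := hE
    have ew' : Φ.e c q * x * (Φ.e c q)⁻¹ = Φ.e c w := ew
    have hxE : Φ.InE c x := by
      refine ⟨w, hw, ?_⟩
      calc x = (Φ.e c q)⁻¹ * (Φ.e c q * x * (Φ.e c q)⁻¹) * Φ.e c q := by group
        _ = Φ.e c w := by rw [ew', mul_assoc, Φ.e_comm hc w q, inv_mul_cancel_left]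
    show Φ.e c q * x * (Φ.e c q)⁻¹ = 1
    rw [hinter x hx hxE]
    group
  · intro g hg
    obtain ⟨w, hw, x, hx, ex⟩ := hcover ((Φ.e c q)⁻¹ * g * Φ.e c q)
      (mul_mem (mul_mem (inv_mem (Φ.mem_nrm_of_mat hc (Φ.isMat_e hc q))) hg)
        (Φ.mem_nrm_of_mat hc (Φ.isMat_e hc q)))
    refine ⟨w, hw, _, ⟨x, hx, rfl⟩, ?_⟩
    show g = Φ.e c w * (Φ.e c q * x * (Φ.e c q)⁻¹)
    rw [← mul_assoc, ← mul_assoc, Φ.e_comm hc w q, mul_assoc (Φ.e c q), ← ex]
    group
  · refine ⟨qa, hqa, ?_⟩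
    show Φ.e c q * qa * (Φ.e c q)⁻¹ = _
    rw [← cA, Φ.e_inv hc]
    calc Φ.e c q * (Φ.e c q * Φ.F c.aW * Φ.e c q) * Φ.e c q
        = (Φ.e c q * Φ.e c q) * Φ.F c.aW * (Φ.e c q * Φ.e c q) := by group
      _ = Φ.F c.aW := by rw [Φ.e_sq hc]; group
  · refine ⟨qb, hqb, ?_⟩
    show Φ.e c q * qb * (Φ.e c q)⁻¹ = _
    rw [← cB, Φ.e_inv hc]
    calc Φ.e c q * (Φ.e c q * Φ.F c.bW * Φ.e c q) * Φ.e c q
        = (Φ.e c q * Φ.e c q) * Φ.F c.bW * (Φ.e c q * Φ.e c q) := by group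
      _ = Φ.F c.bW := by rw [Φ.e_sq hc]; group

end Phi

end CfsgLib.McLUniq
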