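import Cfsg.Agent.McLUniq.ClTests
import Cfsg.Agent.Coset.Blocks

/-! The tests on the first class. -/

set_option autoImplicit false
set_option maxRecDepth 100000
set_option Elab.async false

namespace CfsgLib.McLUniq

open CfsgLib.Coset

theorem one_basis : one.basisOK = true := by decide +kernel
theorem one_act : one.actOK = true := by decide +kernel
theorem one_lets : one.letsOK = true := by decide +kernel
theorem one_lbar : one.lbarOK = true := by decide +kernel
theorem one_reps : one.repsOK = true := by decide +kernel
theorem one_sols : one.solsOK = true := by decide +kernel
theorem one_pairs : one.pairsOK = true := by decide +kernel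
theorem one_coset : allBelow 12 4096 one.cosetAt = true := by decide +kernel

end CfsgLib.McLUniq
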