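import Cfsg.Agent.McLUniq.GTests

/-! The tests on pairs. -/

set_option autoImplicit false
set_option maxRecDepth 100000
set_option Elab.async false

namespace CfsgLib.McLUniq

theorem d_one : dOK one = true := by decide +kernel
theorem d_two : dOK two = true := by decide +kernel
theorem dGen_one : dGenOK one = true := by decide +kernel
theorem dGen_two : dGenOK two = true := by decide +kernel
theorem dCent_ok : dCentOK = true := by decide +kernel

end CfsgLib.McLUniq
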