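import Cfsg.Agent.McLUniq.Pair
import Mathlib.Data.Nat.Bitwise

/-!
# Linearity of the action of the matrix codes
-/

set_option autoImplicit false

namespace CfsgLib.McLUniq

theorem bit_eq (v i : Nat) : Nat.beq ((v >>> i) &&& 1) 1 = v.testBit i := by
  rw [Nat.testBit, Nat.one_and_eq_mod_two, Nat.and_one_is_mod]
  rcases Nat.mod_two_eq_zero_or_one (v >>> i) with h | h <;> rw [h] <;> rfl

theorem pickB_eq (v i a : Nat) : pickB v i a = if v.testBit i then a else 0 := by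
  rw [pickB, bit_eq]

theorem pickB_xor_left (v u i a : Nat) : pickB (v ^^^ u) i a = pickB v i a ^^^ pickB u i a := by
  simp only [pickB_eq, Nat.testBit_xor]
  cases v.testBit i <;> cases u.testBit i <;> simp

theorem xor_shuffle (a b c d a' b' c' d' : Nat) :
    (a ^^^ a') ^^^ (b ^^^ b') ^^^ (c ^^^ c') ^^^ (d ^^^ d') =
      (a ^^^ b ^^^ c ^^^ d) ^^^ (a' ^^^ b' ^^^ c' ^^^ d') := by
  ac_rfl

theorem apM_xor (X v u : Nat) : apM X (v ^^^ u) = apM X v ^^^ apM X u := by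
  simp only [apM, pickB_xor_left]
  exact xor_shuffle _ _ _ _ _ _ _ _

theorem apM_zero (X : Nat) : apM X 0 = 0 := by simp [apM, pickB_eq]

theorem apM_pick (X v i a : Nat) : apM X (pickB v i a) = pickB v i (apM X a) := by
  simp only [pickB_eq]
  split <;> simp [apM_zero]

theorem colM_eq (X i : Nat) : colM X i = X / 2 ^ (4 * i) % 16 := by
  rw [colM, Nat.shiftRight_eq_div_pow, show (15 : Nat) = 2 ^ 4 - 1 from rfl, Nat.and_two_pow_sub_one_eq_mod]

/-- A matrix code from its four columns. -/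
theorem colM_code {a b c d : Nat} (ha : a < 16) (hb : b < 16) (hc : c < 16) (hd : d < 16) :
    colM (a + 16 * b + 256 * c + 4096 * d) 0 = a ∧ colM (a + 16 * b + 256 * c + 4096 * d) 1 = b ∧
    colM (a + 16 * b + 256 * c + 4096 * d) 2 = c ∧ colM (a + 16 * b + 256 * c + 4096 * d) 3 = d := by
  simp only [colM_eq]
  norm_num
  refine ⟨?_, ?_, ?_, ?_⟩ <;> omega

theorem colM_mulM (X Y : Nat) : colM (mulM X Y) 0 = apM X (colM Y 0) ∧
    colM (mulM X Y) 1 = apM X (colM Y 1) ∧ colM (mulM X Y) 2 = apM X (colM Y 2) ∧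
    colM (mulM X Y) 3 = apM X (colM Y 3) :=
  colM_code (apM_lt _ _) (apM_lt _ _) (apM_lt _ _) (apM_lt _ _)

theorem apM_mulM (X Y v : Nat) : apM (mulM X Y) v = apM X (apM Y v) := by
  obtain ⟨h0, h1, h2, h3⟩ := colM_mulM X Y
  conv_lhs => rw [apM, h0, h1, h2, h3]
  rw [show apM Y v = pickB v 0 (colM Y 0) ^^^ pickB v 1 (colM Y 1) ^^^ pickB v 2 (colM Y 2) ^^^
    pickB v 3 (colM Y 3) from rfl]
  simp only [apM_xor, apM_pick]

theorem apM_idM {v : Nat} (hv : v < 16) : apM idM v = v := by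
  interval_cases v <;> decide

theorem apM_basis (X : Nat) : apM X 1 = colM X 0 ∧ apM X 2 = colM X 1 ∧ apM X 4 = colM X 2 ∧
    apM X 8 = colM X 3 := by
  refine ⟨?_, ?_, ?_, ?_⟩ <;> simp [apM, pickB, Nat.shiftRight_eq_div_pow]

theorem code_eq {X : Nat} (hX : X < 65536) :
    X = colM X 0 + 16 * colM X 1 + 256 * colM X 2 + 4096 * colM X 3 := by
  simp only [colM_eq]
  norm_num
  omega

theorem code_ext {X Y : Nat} (hX : X < 65536) (hY : Y < 65536) (h : ∀ v, v < 16 → apM X v = apM Y v) :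
    X = Y := by
  have h1 := h 1 (by norm_num)
  have h2 := h 2 (by norm_num)
  have h4 := h 4 (by norm_num)
  have h8 := h 8 (by norm_num)
  obtain ⟨a, b, c, d⟩ := apM_basis X
  obtain ⟨a', b', c', d'⟩ := apM_basis Y
  rw [code_eq hX, code_eq hY, ← a, ← b, ← c, ← d, ← a', ← b', ← c', ← d', h1, h2, h4, h8]

/-- A vector below 16 is the sum of its basis vectors. -/
theorem vec_pick : ∀ v, v < 16 →
    v = pickB v 0 1 ^^^ pickB v 1 2 ^^^ pickB v 2 4 ^^^ pickB v 3 8 := by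
  decide

end CfsgLib.McLUniq
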