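import Cfsg.Agent.McLUniq.ClTests
import Cfsg.Agent.McLUniq.ClChecksOne
import Cfsg.Agent.McLUniq.ClChecksTwo
import Cfsg.Agent.McLUniq.GChecksPairs
import Cfsg.Agent.McLUniq.Local

/-! The two classes pass the tests. -/

set_option autoImplicit false

namespace CfsgLib.McLUniq

theorem oneOK : ClOK one :=
  ⟨one_basis, one_act, one_lets, one_lbar, one_reps, one_sols, one_pairs, one_coset⟩

theorem twoOK : ClOK two :=
  ⟨two_basis, two_act, two_lets, two_lbar, two_reps, two_sols, two_pairs, two_coset⟩

end CfsgLib.McLUniq
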