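import Cfsg.Agent.McLUniq.Glue
import Cfsg.Agent.McLUniq.Model
import Cfsg.Agent.McLUniq.Closing
import Cfsg.Agent.McLUniq.General
import Cfsg.Agent.McLCent.Main

/-!
# Recognition of the McLaughlin group by an involution centralizer
-/

set_option autoImplicit false
set_option maxRecDepth 100000
set_option linter.style.haveILetI false

namespace CfsgLib.McLUniq

open Subgroup CfsgLib.Coset

/-- A group with an involution whose centralizer is a nonsplit double cover of the alternating
group of degree eight, the involution not being isolated, is the McLaughlin group. -/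
theorem recog {G : Type*} [Group G] [Finite G] {t : G} (ht : orderOf t = 2)
    (hcov : Cfsg.IsNonsplitDoubleCover (centralizer ({t} : Set G)) (alternatingGroup (Fin 8))) :
    centralizer ({t} : Set G) ⊔ Cfsg.oddCore G = ⊤ ∨ Nonempty (G ≃* Cfsg.Spor.McL) := by
  classical
  by_cases hiso : ∀ g : G, Commute t (g * t * g⁻¹) → g * t * g⁻¹ = t
  · exact Or.inl (sup_oddCore_of_isolated ht hiso)
  right
  push Not at hiso
  obtain ⟨g, hc, hne⟩ := hiso
  obtain ⟨Φ⟩ := exists_phi ht hcov
  have hC : Nat.card (centralizer ({t} : Set G)) = 40320 := by rw [card_cover hcov, card_alt8]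
  obtain ⟨w, hR, hw⟩ := Φ.exists_rels hC hc hne
  set L := Φ.LG ++ [w] with hL
  set G0 := closure {x | x ∈ L} with hG0
  have hF : ∀ v, Φ.F v ∈ G0 := fun v => by
    induction v with
    | nil => rw [Φ.F_nil]; exact one_mem _
    | cons l v ih =>
      rw [Φ.F_cons]
      refine mul_mem ?_ ih
      simp only [Phi.F, ev_cons, ev_nil, mul_one]
      exact closure_mono (fun x hx => List.mem_append_left _ hx) (mem_closure_fl l)
  have hCle : centralizer ({t} : Set G) ≤ G0 := fun x hx => by
    obtain ⟨v, -, rfl⟩ := Φ.exists_word hx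
    exact hF v
  -- the seven elements inside the subgroup they generate
  let L' : List G0 := L.attach.map fun x => ⟨x.1, subset_closure x.2⟩
  have hfl : ∀ l, ((fl L' l : G0) : G) = fl L l := fun l => by
    rcases lt_or_ge l L.length with h | h
    · rw [fl, List.getD_eq_getElem _ _ (by simpa [L'] using h), fl, List.getD_eq_getElem _ _ h]
      simp [L']
    · rw [fl_of_le L h, fl_of_le L' (by simpa [L'] using h)]; rfl
  have hev : ∀ v, ((ev L' v : G0) : G) = ev L v := fun v => by
    induction v with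
    | nil => rfl
    | cons l v ih => rw [ev_cons, ev_cons, Subgroup.coe_mul, hfl, ih]
  have hR' : Rels L' := ⟨by simp only [L', List.length_map, List.length_attach]; exact hR.len,
    fun r hr => Subtype.ext (by rw [hev, hR.rel r hr]; rfl)⟩
  have hgen : closure {x | x ∈ L'} = ⊤ := by
    refine Subgroup.map_injective G0.subtype_injective ?_
    rw [MonoidHom.map_closure, ← MonoidHom.range_eq_map, G0.range_subtype]
    refine Eq.trans ?_ hG0.symm
    congr 1
    ext x
    simpa [L'] using fun h => (subset_closure h : x ∈ G0)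
  let f' : ↥(subH L0) →* G0 := Φ.f.codRestrict G0 fun p => hCle (Φ.range ▸ ⟨p, rfl⟩)
  have hH : ∃ f : ↥(subH L0) →* G0, ∀ l < 6, ∀ hl, f ⟨fl L0 l, hl⟩ = fl L' l :=
    ⟨f', fun l hl hl' => Subtype.ext (by
      rw [hfl, hL, Φ.fl_append_lt hl, Phi.F, ev_cons, ev_nil, mul_one, Φ.fl_LG hl]; rfl)⟩
  have hc' : Nat.card (subH L0) ≤ 40320 := by
    rw [← hC, ← Φ.range]
    exact (Nat.card_congr (MonoidHom.ofInjective Φ.inj).toEquiv).le
  have ht0 : t ∈ G0 := hCle (mem_centralizer_singleton_iff.2 rfl)
  haveI : Nontrivial G0 := ⟨⟨t, ht0⟩, 1, fun e => by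
    have e' : t = 1 := congrArg Subtype.val e
    rw [e', orderOf_one] at ht
    omega⟩
  obtain ⟨e⟩ := nonempty_equiv hR' hgen hH hc'
  have hconj : ∀ x ∈ G0, orderOf x = 2 → ∃ k ∈ G0, k * t * k⁻¹ = x := fun x hx hx2 => by
    obtain ⟨k, hk⟩ := isConj_iff.1 (Cfsg.Agent.McLCent.main.1 (e ⟨t, ht0⟩) (e ⟨x, hx⟩)
      (by rw [MulEquiv.orderOf_eq, Subgroup.orderOf_mk, ht])
      (by rw [MulEquiv.orderOf_eq, Subgroup.orderOf_mk, hx2]))
    refine ⟨(e.symm k : G), SetLike.coe_mem _, ?_⟩
    have := congrArg (fun y => ((e.symm y : G0) : G)) hk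
    simpa using this
  have hp : Bender.PairRank G := ⟨t, Φ.s, ht, orderOf_eq_prime (by rw [pow_two, Φ.s_sq]) Φ.s_ne_one,
    Φ.s_ne_t.symm, Φ.s_comm.symm⟩
  have htop : G0 = ⊤ := eq_top_of_pairRank ht hCle hp hconj (not_isSolvable_of_cover (by norm_num) hcov)
  exact ⟨(MulEquiv.subgroupCongr htop |>.trans Subgroup.topEquiv).symm.trans e⟩

end CfsgLib.McLUniq
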