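import Cfsg.Agent.Coset.Prim

/-!
The rules of the coset table of the involution centralizer: rotations of relators.
-/

set_option autoImplicit false
set_option maxRecDepth 100000

namespace CfsgLib.McLUniq.TG

def R : CfsgLib.Coset.Tr (List Nat × Nat) := (.node (.node (.node (.node (.node (.node (.node (.node (.node (.leaf ([255, 0], 3)) (.leaf ([3, 0, 0, 2, 0, 3, 1, 1, 2, 0], 9746))) (.node (.leaf ([2, 0, 0, 0, 3, 4, 0, 2, 4, 3, 0], 17940)) (.leaf ([255, 0], 3)))) (.node (.node (.leaf ([1, 5, 0, 5, 3, 0, 0, 2, 0, 5], 10250)) (.leaf ([6, 2, 2, 6, 3, 6, 2, 2, 6, 3], 13330))) (.node (.leaf ([6, 2, 0, 0, 3, 6, 5, 0, 0, 5], 13840)) (.leaf ([255, 0], 3))))) (.node (.node (.node (.leaf ([4, 3, 4, 3, 4, 2, 2, 4, 3], 4104)) (.leaf ([5, 0, 6, 5, 0, 6, 5, 0, 6], 8208))) (.node (.leaf ([5,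 1, 5, 1, 6, 0, 0, 6, 5, 1], 16394)) (.leaf ([255, 0], 3)))) (.node (.node (.leaf ([0, 6, 2, 0, 6, 2, 0, 6, 3, 3], 12288)) (.leaf ([255, 0], 3))) (.node (.leaf ([1, 2, 6, 2, 0, 6, 3, 0, 3, 6], 11782)) (.leaf ([255, 0], 3)))))) (.node (.node (.node (.node (.leaf ([6, 0, 0, 6, 0, 5, 0, 5, 0, 5], 15890)) (.leaf ([3, 6, 2, 2, 6, 3, 6, 2, 2, 6], 13328))) (.node (.leaf ([3, 0, 0, 2, 0, 5, 1, 5, 0, 5], 10258)) (.leaf ([255, 0], 3)))) (.node (.node (.leaf ([0, 3, 3, 6, 0, 6, 2, 1, 6], 6144)) (.leaf ([255, 0], 3))) (.node (.leaf ([3, 0, 3, 6, 1, 2, 6, 2, 0, 6], 11794)) (.leaf ([255, 0], 3))))) (.node (.node (.node (.leaf ([5, 4, 5, 3, 4, 1, 4, 0, 3], 3588)) (.leaf ([2, 0, 3, 1, 1, 2, 0, 3, 0, 0], 9732))) (.node (.leaf ([6, 3, 6, 2, 2, 6, 3, 6, 2, 2], 13326)) (.leaf ([255, 0], 3)))) (.node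 (.node (.leaf ([0, 6, 5, 0, 6, 5, 0, 6, 5], 8192)) (.leaf ([255, 0], 3))) (.node (.leaf ([1, 5, 1, 5, 1, 6, 0, 0, 6, 5], 16392)) (.leaf ([255, 0], 3))))))) (.node (.node (.node (.node (.node (.leaf ([4, 3, 0, 6, 4, 6, 1, 2, 4, 6], 12816)) (.leaf ([2, 0, 6, 2, 0, 6, 2, 0, 6], 7178))) (.node (.leaf ([6, 3, 6, 2, 2, 6, 3, 6, 2, 2], 13316)) (.leaf ([255, 0], 3)))) (.node (.node (.leaf ([6, 0, 6, 0, 5, 0, 0, 5, 6, 0], 15370)) (.leaf ([255, 0], 3))) (.node (.leaf ([0, 3, 6, 0, 3, 0, 2, 6, 0], 4610)) (.leaf ([255, 0], 3))))) (.node (.node (.node (.leaf ([5, 0, 0, 0, 4, 0, 3, 4, 3, 5, 4], 18452)) (.leaf ([0, 0, 6, 0, 5, 0, 5, 0, 5, 6], 15872))) (.node (.leaf ([1, 3, 0, 0, 0, 3, 1, 3, 1, 3], 8720)) (.leaf ([255, 0], 3)))) (.node (.node (.leaf ([3, 0, 0, 2, 1, 3, 0, 0, 2, 1], 10760)) (.leaf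 ([255, 0], 3))) (.node (.leaf ([5, 0, 0, 5, 1, 6, 1, 6, 1, 6], 14866)) (.leaf ([255, 0], 3)))))) (.node (.node (.node (.node (.leaf ([3, 4, 0, 2, 4, 3, 0, 2, 0, 0, 0], 17926)) (.leaf ([6, 2, 0, 6, 3, 3, 0, 6, 2, 0], 12296))) (.node (.leaf ([0, 0, 2, 0, 3, 0, 0, 2, 0, 3], 9216)) (.leaf ([255, 0], 3)))) (.node (.node (.leaf ([0, 0, 0, 4, 0, 3, 4, 3, 5, 4, 5], 18432)) (.leaf ([255, 0], 3))) (.node (.leaf ([0, 2, 5, 1, 5, 0, 5, 1, 3, 0], 11266)) (.leaf ([255, 0], 3))))) (.node (.node (.node (.leaf ([0, 6, 0, 5, 0, 5, 0, 5, 6, 0], 15874)) (.leaf ([0, 6, 5, 0, 6, 5, 0, 6, 5], 8204))) (.node (.leaf ([3, 4, 0, 0, 0, 4, 0, 3, 5, 4, 5], 18962)) (.leaf ([255, 0], 3)))) (.node (.node (.leaf ([2, 0, 6, 3, 0, 3, 6, 1, 2, 6], 11788)) (.leaf ([255, 0], 3))) (.node (.leaf ([5, 1, 5, 0, 5, 3, 0,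 0, 2, 0], 10248)) (.leaf ([255, 0], 3)))))))) (.node (.node (.node (.node (.node (.node (.leaf ([6, 0, 5, 0, 5, 0, 5, 6, 0, 0], 15876)) (.leaf ([6, 0, 3, 6, 0, 3, 6, 0, 3], 6672))) (.node (.leaf ([6, 0, 2, 2, 6, 1, 6, 3, 1], 5648)) (.leaf ([255, 0], 3)))) (.node (.node (.leaf ([0, 3, 0, 2, 6, 0, 0, 3, 6], 4616)) (.leaf ([0, 0, 3, 6, 5, 1, 1, 5, 6, 2], 14336))) (.node (.leaf ([4, 6, 4, 3, 0, 6, 4, 6, 1, 2], 12812)) (.leaf ([255, 0], 3))))) (.node (.node (.node (.leaf ([0, 6, 5, 0, 6, 5, 0, 6, 5], 8198)) (.leaf ([1, 6, 1, 6, 1, 6, 5, 0, 0, 5], 14854))) (.node (.leaf ([0, 2, 1, 3, 0, 0, 2, 1, 3, 0], 10764)) (.leaf ([255, 0], 3)))) (.node (.node (.leaf ([0, 3, 4, 0, 2, 4, 3, 0, 2, 0, 0], 17924)) (.leaf ([255, 0], 3))) (.node (.leaf ([6, 4, 3, 0, 6, 4, 6, 1, 2, 4], 12814)) (.leaf ([255,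 0], 3)))))) (.node (.node (.node (.node (.leaf ([3, 6, 0, 6, 2, 1, 6, 0, 3], 6148)) (.leaf ([0, 6, 2, 0, 6, 2, 0, 6, 2], 7168))) (.node (.leaf ([2, 2, 4, 3, 4, 3, 4, 3, 4], 4096)) (.leaf ([255, 0], 3)))) (.node (.node (.leaf ([6, 0, 0, 3, 6, 0, 3, 0, 2], 4624)) (.leaf ([255, 0], 3))) (.node (.leaf ([2, 5, 4, 5, 2, 0, 0, 0, 4, 0, 4], 19468)) (.leaf ([255, 0], 3))))) (.node (.node (.node (.leaf ([0, 5, 6, 2, 0, 0, 3, 6, 5, 0], 13836)) (.leaf ([5, 0, 0, 5, 6, 0, 6, 0, 6, 0], 15378))) (.node (.leaf ([3, 0, 0, 0, 3, 1, 3, 1, 3, 1], 8722)) (.leaf ([255, 0], 3)))) (.node (.node (.leaf ([4, 0, 4, 2, 5, 4, 5, 2, 0, 0, 0], 19462)) (.leaf ([255, 0], 3))) (.node (.leaf ([3, 1, 3, 1, 3, 1, 3, 0, 0, 0], 8710)) (.leaf ([255, 0], 3))))))) (.node (.node (.node (.node (.node (.leaf ([5, 0, 6, 5,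 0, 6, 5, 0, 6], 8196)) (.leaf ([2, 6, 3, 6, 2, 2, 6, 3, 6, 2], 13314))) (.node (.leaf ([1, 3, 0, 0, 2, 5, 1, 5, 0, 5], 11280)) (.leaf ([255, 0], 3)))) (.node (.node (.leaf ([0, 3, 5, 4, 5, 3, 4, 1, 4], 3584)) (.leaf ([255, 0], 3))) (.node (.leaf ([0, 2, 2, 6, 1, 6, 3, 1, 6], 5632)) (.leaf ([255, 0], 3))))) (.node (.node (.node (.leaf ([5, 3, 4, 1, 4, 0, 3, 5, 4], 3592)) (.leaf ([2, 1, 3, 0, 0, 2, 1, 3, 0, 0], 10766))) (.node (.leaf ([6, 1, 2, 6, 2, 0, 6, 3, 0, 3], 11780)) (.leaf ([255, 0], 3)))) (.node (.node (.leaf ([2, 3], 1538)) (.leaf ([255, 0], 3))) (.node (.leaf ([0, 3, 0, 0, 2, 0, 3, 1, 1, 2], 9744)) (.leaf ([255, 0], 3)))))) (.node (.node (.node (.node (.leaf ([0, 6, 3, 0, 3, 6, 1, 2, 6, 2], 11790)) (.leaf ([0, 0, 5, 6, 2, 0, 0, 3, 6, 5], 13834))) (.node (.leaf ([6, 0, 3,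 3, 6, 0, 6, 2, 1], 6160)) (.leaf ([255, 0], 3)))) (.node (.node (.leaf ([6, 2, 0, 0, 6, 3, 1, 2, 1], 5134)) (.leaf ([255, 0], 3))) (.node (.leaf ([2, 6, 3, 6, 2, 2, 6, 3, 6, 2], 13324)) (.leaf ([255, 0], 3))))) (.node (.node (.node (.leaf ([5, 0, 0, 0, 2, 1, 5, 2, 1, 5, 3], 16916)) (.leaf ([5, 4, 5, 3, 4, 0, 0, 0, 4, 0, 3], 18956))) (.node (.leaf ([0, 0, 2, 1, 3, 0, 0, 2, 1, 3], 10762)) (.leaf ([255, 0], 3)))) (.node (.node (.leaf ([5, 1, 6, 1, 6, 1, 6, 5, 0, 0], 14852)) (.leaf ([255, 0], 3))) (.node (.leaf ([6, 0, 3, 6, 0, 3, 6, 0, 3], 6660)) (.leaf ([255, 0], 3))))))))) (.node (.node (.node (.node (.node (.node (.node (.leaf ([255, 4], 2051)) (.leaf ([6, 0, 3, 6, 0, 3, 6, 0, 3], 6666))) (.node (.leaf ([2, 6, 3, 6, 3, 6, 3, 6, 2], 7682)) (.leaf ([255, 0], 3)))) (.node (.node (.leaf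 ([4, 2, 5, 4, 5, 2, 0, 0, 0, 4, 0], 19466)) (.leaf ([2, 2, 6, 3, 6, 2, 2, 6, 3, 6], 13322))) (.node (.leaf ([2, 0, 6, 2, 0, 6, 3, 3, 0, 6], 12292)) (.leaf ([255, 0], 3))))) (.node (.node (.node (.leaf ([2, 0, 5, 1, 5, 0, 5, 3, 0, 0], 10244)) (.leaf ([2, 0, 6, 2, 0, 6, 2, 0, 6], 7172))) (.node (.leaf ([0, 4, 0, 3, 5, 4, 5, 3, 4, 0, 0], 18948)) (.leaf ([255, 0], 3)))) (.node (.node (.leaf ([1, 3, 0, 0, 2, 1, 3, 0, 0, 2], 10758)) (.leaf ([255, 0], 3))) (.node (.leaf ([0, 6, 3, 1, 2, 1, 6, 2, 0], 5122)) (.leaf ([255, 0], 3)))))) (.node (.node (.node (.node (.leaf ([0, 3, 6, 0, 3, 6, 0, 3, 6], 6662)) (.leaf ([0, 5, 0, 0, 5, 6, 0, 6, 0, 6], 15376))) (.node (.leaf ([5, 0, 5, 1, 3, 0, 0, 2, 5, 1], 11274)) (.leaf ([255, 0], 3)))) (.node (.node (.leaf ([6, 2, 1, 6, 0, 3, 3, 6, 0], 6154))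 (.leaf ([255, 0], 3))) (.node (.leaf ([6, 2, 0, 0, 3, 6, 5, 1, 1, 5], 14352)) (.leaf ([255, 0], 3))))) (.node (.node (.node (.leaf ([1, 5, 1, 6, 0, 0, 6, 5, 1, 5], 16396)) (.leaf ([3, 6, 0, 3, 6, 0, 3, 6, 0], 6664))) (.node (.leaf ([0, 0, 0, 3, 1, 3, 1, 3, 1, 3], 8704)) (.leaf ([255, 0], 3)))) (.node (.node (.leaf ([1, 6, 1, 6, 5, 0, 0, 5, 1, 6], 14858)) (.leaf ([255, 0], 3))) (.node (.leaf ([2, 0, 6, 2, 0, 6, 2, 0, 6], 7184)) (.leaf ([255, 0], 3))))))) (.node (.node (.node (.node (.node (.leaf ([2, 4, 6, 4, 3, 0, 6, 4, 6, 1], 12810)) (.leaf ([2, 4, 3, 1, 4, 2, 0, 3, 0, 0, 0], 17414))) (.node (.leaf ([0, 3, 4, 3, 5, 4, 5, 0, 0, 0, 4], 18440)) (.leaf ([255, 0], 3)))) (.node (.node (.leaf ([1, 6, 0, 2, 2, 6, 1, 6, 3], 5646)) (.leaf ([255, 0], 3))) (.node (.leaf ([6, 1, 6, 3, 1, 6,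 0, 2, 2], 5638)) (.leaf ([255, 0], 3))))) (.node (.node (.node (.leaf ([4, 0, 3, 5, 4, 5, 3, 4, 1], 3600)) (.leaf ([2, 0, 0, 3, 6, 5, 0, 0, 5, 6], 13842))) (.node (.leaf ([5, 3, 4, 0, 0, 0, 4, 0, 3, 5, 4], 18960)) (.leaf ([255, 0], 3)))) (.node (.node (.leaf ([1, 0], 512)) (.leaf ([255, 0], 3))) (.node (.leaf ([6, 1, 6, 1, 6, 5, 0, 0, 5, 1], 14856)) (.leaf ([255, 0], 3)))))) (.node (.node (.node (.node (.leaf ([6, 2, 0, 6, 2, 0, 6, 2, 0], 7170)) (.leaf ([0, 0, 4, 0, 3, 5, 4, 5, 3, 4, 0], 18946))) (.node (.leaf ([1, 6, 0, 3, 3, 6, 0, 6, 2], 6158)) (.leaf ([255, 0], 3)))) (.node (.node (.leaf ([3, 1, 3, 1, 3, 0, 0, 0, 3, 1], 8714)) (.leaf ([255, 0], 3))) (.node (.leaf ([6, 0, 5, 0, 0, 5, 6, 0, 6, 0], 15374)) (.leaf ([255, 0], 3))))) (.node (.node (.node (.leaf ([5, 2, 1, 5, 3, 5,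 0, 0, 0, 2, 1], 16906)) (.leaf ([6, 5, 1, 1, 5, 6, 2, 0, 0, 3], 14342))) (.node (.leaf ([0, 6, 4, 6, 1, 2, 4, 6, 4, 3], 12800)) (.leaf ([255, 0], 3)))) (.node (.node (.leaf ([3, 0, 2, 0, 0, 0, 3, 4, 0, 2, 4], 17936)) (.leaf ([255, 0], 3))) (.node (.leaf ([0, 4, 2, 5, 4, 5, 2, 0, 0, 0, 4], 19464)) (.leaf ([255, 0], 3)))))))) (.node (.node (.node (.node (.node (.node (.leaf ([6, 0, 3, 0, 2, 6, 0, 0, 3], 4614)) (.leaf ([0, 2, 4, 3, 1, 4, 2, 0, 3, 0, 0], 17412))) (.node (.leaf ([5, 0, 0, 5, 6, 2, 0, 0, 3, 6], 13832)) (.leaf ([255, 0], 3)))) (.node (.node (.leaf ([3, 0, 6, 2, 0, 6, 2, 0, 6, 3], 12306)) (.leaf ([255, 0], 3))) (.node (.leaf ([4, 5, 2, 0, 0, 0, 4, 0, 4, 2, 5], 19472)) (.leaf ([255, 0], 3))))) (.node (.node (.node (.leaf ([0, 3, 6, 5, 0, 0, 5, 6, 2, 0], 13826)) (.leaf ([0,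 3, 5, 4, 5, 3, 4, 0, 0, 0, 4], 18952))) (.node (.leaf ([0, 0, 0, 4, 0, 4, 2, 5, 4, 5, 2], 19456)) (.leaf ([255, 0], 3)))) (.node (.node (.leaf ([2, 4, 3, 4, 3, 4, 3, 4, 2], 4098)) (.leaf ([255, 0], 3))) (.node (.leaf ([6, 5, 0, 6, 5, 0, 6, 5, 0], 8194)) (.leaf ([255, 0], 3)))))) (.node (.node (.node (.node (.leaf ([3, 3, 6, 0, 6, 2, 1, 6, 0], 6146)) (.leaf ([3, 1, 1, 2, 0, 3, 0, 0, 2, 0], 9736))) (.node (.leaf ([4, 5, 3, 4, 1, 4, 0, 3, 5], 3590)) (.leaf ([255, 0], 3)))) (.node (.node (.leaf ([6, 3, 1, 6, 0, 2, 2, 6, 1], 5642)) (.leaf ([255, 0], 3))) (.node (.leaf ([0, 6, 2, 0, 6, 3, 3, 0, 6, 2], 12294)) (.leaf ([255, 0], 3))))) (.node (.node (.node (.leaf ([0, 5, 3, 0, 0, 2, 0, 5, 1, 5], 10254)) (.leaf ([0, 0, 5, 1, 6, 1, 6, 1, 6, 5], 14848))) (.node (.leaf ([0, 3, 0, 0, 2, 0, 3,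 0, 0, 2], 9222)) (.leaf ([255, 0], 3)))) (.node (.node (.leaf ([4, 3, 4, 3, 4, 3, 4, 2, 2], 4100)) (.leaf ([255, 0], 3))) (.node (.leaf ([0, 5, 0, 5, 6, 0, 0, 6, 0, 5], 15882)) (.leaf ([255, 0], 3))))))) (.node (.node (.node (.node (.node (.leaf ([1, 6, 3, 1, 6, 0, 2, 2, 6], 5640)) (.leaf ([0, 0, 2, 1, 3, 0, 0, 2, 1, 3], 10752))) (.node (.leaf ([1, 1, 2, 0, 3, 0, 0, 2, 0, 3], 9738)) (.leaf ([255, 0], 3)))) (.node (.node (.leaf ([2, 6, 0, 0, 3, 6, 0, 3, 0], 4622)) (.leaf ([255, 0], 3))) (.node (.leaf ([0, 0, 2, 0, 5, 1, 5, 0, 5, 3], 10240)) (.leaf ([255, 0], 3))))) (.node (.node (.node (.leaf ([3, 6, 5, 0, 0, 5, 6, 2, 0, 0], 13828)) (.leaf ([6, 0, 0, 6, 5, 1, 5, 1, 5, 1], 16402))) (.node (.leaf ([3, 1, 2, 1, 6, 2, 0, 0, 6], 5126)) (.leaf ([255, 0], 3)))) (.node (.node (.leaf ([6,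 6], 3072)) (.leaf ([255, 0], 3))) (.node (.leaf ([1, 2, 0, 3, 0, 0, 2, 0, 3, 1], 9740)) (.leaf ([255, 0], 3)))))) (.node (.node (.node (.node (.leaf ([6, 1, 2, 4, 6, 4, 3, 0, 6, 4], 12806)) (.leaf ([2, 5, 1, 5, 0, 5, 1, 3, 0, 0], 11268))) (.node (.leaf ([6, 2, 2, 6, 3, 6, 3, 6, 3], 7696)) (.leaf ([255, 0], 3)))) (.node (.node (.leaf ([0, 2, 0, 3, 0, 0, 2, 0, 3, 0], 9228)) (.leaf ([255, 0], 3))) (.node (.leaf ([6, 2, 0, 6, 3, 0, 3, 6, 1, 2], 11786)) (.leaf ([255, 0], 3))))) (.node (.node (.node (.leaf ([0, 1], 514)) (.leaf ([3, 5, 4, 5, 3, 4, 0, 0, 0, 4, 0], 18954))) (.node (.leaf ([6, 5, 1, 5, 1, 5, 1, 6, 0, 0], 16388)) (.leaf ([255, 0], 3)))) (.node (.node (.leaf ([3, 6, 3, 6, 2, 2, 6, 3, 6], 7690)) (.leaf ([255, 0], 3))) (.node (.leaf ([6, 5, 0, 0, 5, 6, 2, 0, 0, 3], 13830)) (.leaf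 ([255, 0], 3)))))))))) (.node (.node (.node (.node (.node (.node (.node (.node (.leaf ([255, 2], 1027)) (.leaf ([0, 6, 2, 1, 6, 0, 3, 3, 6], 6152))) (.node (.leaf ([1, 4, 2, 0, 3, 0, 0, 0, 2, 4, 3], 17420)) (.leaf ([255, 0], 3)))) (.node (.node (.leaf ([4, 3, 5, 4, 5, 0, 0, 0, 4, 0, 3], 18444)) (.leaf ([5, 1, 1, 5, 6, 2, 0, 0, 3, 6], 14344))) (.node (.leaf ([1, 6, 2, 0, 0, 6, 3, 1, 2], 5132)) (.leaf ([255, 0], 3))))) (.node (.node (.node (.leaf ([3, 5, 0, 0, 0, 2, 1, 5, 2, 1, 5], 16914)) (.leaf ([6, 2, 0, 6, 2, 0, 6, 3, 3, 0], 12290))) (.node (.leaf ([4, 0, 3, 4, 3, 5, 4, 5, 0, 0, 0], 18438)) (.leaf ([255, 0], 3)))) (.node (.node (.leaf ([0, 0, 0, 2, 4, 3, 1, 4, 2, 0, 3], 17408)) (.leaf ([255, 0], 3))) (.node (.leaf ([3, 6, 0, 3, 6, 0, 3, 6, 0], 6658)) (.leaf ([255, 0], 3))))))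 (.node (.node (.node (.node (.leaf ([3, 0, 2, 6, 0, 0, 3, 6, 0], 4618)) (.leaf ([0, 5, 1, 6, 1, 6, 1, 6, 5, 0], 14850))) (.node (.leaf ([0, 6, 5, 1, 5, 1, 5, 1, 6, 0], 16386)) (.leaf ([255, 0], 3)))) (.node (.node (.leaf ([2, 6, 1, 6, 3, 1, 6, 0, 2], 5636)) (.leaf ([255, 0], 3))) (.node (.leaf ([6, 3, 0, 3, 6, 1, 2, 6, 2, 0], 11792)) (.leaf ([255, 0], 3))))) (.node (.node (.node (.leaf ([0, 5, 6, 0, 0, 6, 0, 5, 0, 5], 15886)) (.leaf ([0, 0, 5, 6, 0, 6, 0, 6, 0, 5], 15360))) (.node (.leaf ([2, 0, 3, 0, 0, 0, 2, 4, 3, 1, 4], 17424)) (.leaf ([255, 0], 3)))) (.node (.node (.leaf ([0, 0, 0, 2, 1, 5, 2, 1, 5, 3, 5], 16896)) (.leaf ([255, 0], 3))) (.node (.leaf ([4, 6, 1, 2, 4, 6, 4, 3, 0, 6], 12804)) (.leaf ([255, 0], 3))))))) (.node (.node (.node (.node (.node (.leaf ([4, 3, 0, 2, 0,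 0, 0, 3, 4, 0, 2], 17934)) (.leaf ([5, 6, 0, 0, 6, 0, 5, 0, 5, 0], 15888))) (.node (.leaf ([5, 2, 0, 0, 0, 4, 0, 4, 2, 5, 4], 19474)) (.leaf ([255, 0], 3)))) (.node (.node (.leaf ([6, 0, 6, 2, 1, 6, 0, 3, 3], 6150)) (.leaf ([255, 0], 3))) (.node (.leaf ([3, 1, 6, 0, 2, 2, 6, 1, 6], 5644)) (.leaf ([255, 0], 3))))) (.node (.node (.node (.leaf ([2, 4, 3, 0, 2, 0, 0, 0, 3, 4, 0], 17932)) (.leaf ([0, 0, 2, 1, 5, 2, 1, 5, 3, 5, 0], 16898))) (.node (.leaf ([1, 3, 1, 3, 0, 0, 0, 3, 1, 3], 8716)) (.leaf ([255, 0], 3)))) (.node (.node (.leaf ([3, 4, 1, 4, 0, 3, 5, 4, 5], 3594)) (.leaf ([255, 0], 3))) (.node (.leaf ([5, 1, 5, 1, 5, 1, 6, 0, 0, 6], 16390)) (.leaf ([255, 0], 3)))))) (.node (.node (.node (.node (.leaf ([2, 0, 0, 6, 3, 1, 2, 1, 6], 5136)) (.leaf ([2, 0, 3, 0, 0, 2, 0, 3, 0, 0],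 9230))) (.node (.leaf ([3, 6, 0, 3, 0, 2, 6, 0, 0], 4612)) (.leaf ([255, 0], 3)))) (.node (.node (.leaf ([0, 2, 0, 5, 1, 5, 0, 5, 3, 0], 10242)) (.leaf ([255, 0], 3))) (.node (.leaf ([3, 3, 0, 6, 2, 0, 6, 2, 0, 6], 12304)) (.leaf ([255, 0], 3))))) (.node (.node (.node (.leaf ([2, 1, 5, 3, 5, 0, 0, 0, 2, 1, 5], 16908)) (.leaf ([2, 0, 6, 3, 3, 0, 6, 2, 0, 6], 12298))) (.node (.leaf ([4, 0, 0, 0, 4, 0, 3, 5, 4, 5, 3], 18964)) (.leaf ([255, 0], 3)))) (.node (.node (.leaf ([0, 0, 0, 4, 0, 3, 5, 4, 5, 3, 4], 18944)) (.leaf ([255, 0], 3))) (.node (.leaf ([1, 6, 0, 0, 6, 5, 1, 5, 1, 5], 16400)) (.leaf ([255, 0], 3)))))))) (.node (.node (.node (.node (.node (.node (.leaf ([1, 6, 5, 0, 0, 5, 1, 6, 1, 6], 14862)) (.leaf ([6, 2, 0, 6, 2, 0, 6, 2, 0], 7182))) (.node (.leaf ([4, 0, 2, 4, 3, 0,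 2, 0, 0, 0, 3], 17928)) (.leaf ([255, 0], 3)))) (.node (.node (.leaf ([0, 3, 6, 0, 3, 6, 0, 3, 6], 6656)) (.leaf ([255, 0], 3))) (.node (.leaf ([6, 3, 6, 3, 6, 2, 2, 6, 3], 7688)) (.leaf ([255, 0], 3))))) (.node (.node (.node (.leaf ([5, 0, 5, 6, 0, 0, 6, 0, 5, 0], 15884)) (.leaf ([0, 4, 0, 4, 2, 5, 4, 5, 2, 0, 0], 19460))) (.node (.leaf ([1, 3, 0, 0, 2, 1, 3, 0, 0, 2], 10768)) (.leaf ([255, 0], 3)))) (.node (.node (.leaf ([3, 0, 0, 2, 0, 3, 0, 0, 2, 0], 9224)) (.leaf ([255, 0], 3))) (.node (.leaf ([5, 0, 5, 0, 5, 6, 0, 0, 6, 0], 15880)) (.leaf ([255, 0], 3)))))) (.node (.node (.node (.node (.leaf ([3, 0, 0, 0, 2, 4, 3, 1, 4, 2, 0], 17428)) (.leaf ([3, 4, 2, 2, 4, 3, 4, 3, 4], 4110))) (.node (.leaf ([1, 4, 0, 3, 5, 4, 5, 3, 4], 3598)) (.leaf ([255, 0], 3)))) (.node (.node (.leaf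 ([2, 0, 3, 0, 0, 2, 0, 3, 0, 0], 9220)) (.leaf ([255, 0], 3))) (.node (.leaf ([0, 0, 2, 5, 1, 5, 0, 5, 1, 3], 11264)) (.leaf ([255, 0], 3))))) (.node (.node (.node (.leaf ([4, 2, 0, 3, 0, 0, 0, 2, 4, 3, 1], 17422)) (.leaf ([6, 0, 6, 0, 6, 0, 5, 0, 0, 5], 15366))) (.node (.leaf ([1, 5, 2, 1, 5, 3, 5, 0, 0, 0, 2], 16904)) (.leaf ([255, 0], 3)))) (.node (.node (.leaf ([3, 5, 4, 5, 0, 0, 0, 4, 0, 3, 4], 18446)) (.leaf ([255, 0], 3))) (.node (.leaf ([2, 1, 3, 0, 0, 2, 1, 3, 0, 0], 10756)) (.leaf ([255, 0], 3))))))) (.node (.node (.node (.node (.node (.leaf ([5, 6, 2, 0, 0, 3, 6, 5, 0, 0], 13838)) (.leaf ([4, 2, 2, 4, 3, 4, 3, 4, 3], 4112))) (.node (.leaf ([0, 0, 3, 4, 0, 2, 4, 3, 0, 2, 0], 17922)) (.leaf ([255, 0], 3)))) (.node (.node (.leaf ([2, 1, 6, 0, 3, 3, 6, 0, 6], 6156)) (.leaf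 ([255, 0], 3))) (.node (.leaf ([2, 0, 3, 0, 0, 2, 0, 3, 1, 1], 9742)) (.leaf ([255, 0], 3))))) (.node (.node (.node (.leaf ([5, 6, 2, 0, 0, 3, 6, 5, 1, 1], 14350)) (.leaf ([4, 0, 3, 5, 4, 5, 3, 4, 0, 0, 0], 18950))) (.node (.leaf ([0, 2, 0, 3, 1, 1, 2, 0, 3, 0], 9730)) (.leaf ([255, 0], 3)))) (.node (.node (.leaf ([1, 2, 4, 6, 4, 3, 0, 6, 4, 6], 12808)) (.leaf ([255, 0], 3))) (.node (.leaf ([1, 5, 0, 5, 1, 3, 0, 0, 2, 5], 11272)) (.leaf ([255, 0], 3)))))) (.node (.node (.node (.node (.leaf ([0, 0, 3, 6, 0, 3, 0, 2, 6], 4608)) (.leaf ([4, 3, 1, 4, 2, 0, 3, 0, 0, 0, 2], 17416))) (.node (.leaf ([1, 5, 3, 5, 0, 0, 0, 2, 1, 5, 2], 16910)) (.leaf ([255, 0], 3)))) (.node (.node (.leaf ([6, 2, 0, 6, 2, 0, 6, 2, 0], 7176)) (.leaf ([255, 0], 3))) (.node (.leaf ([3, 6, 0, 3, 6, 0, 3, 6, 0],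 6670)) (.leaf ([255, 0], 3))))) (.node (.node (.node (.leaf ([3, 2], 1536)) (.leaf ([6, 2, 2, 6, 3, 6, 2, 2, 6, 3], 13320))) (.node (.leaf ([3, 4, 3, 4, 3, 4, 2, 2, 4], 4102)) (.leaf ([255, 0], 3)))) (.node (.node (.leaf ([3, 6, 5, 1, 1, 5, 6, 2, 0, 0], 14340)) (.leaf ([255, 0], 3))) (.node (.leaf ([0, 5, 6, 0, 6, 0, 6, 0, 5, 0], 15362)) (.leaf ([255, 0], 3))))))))) (.node (.node (.node (.node (.node (.node (.node (.leaf ([255, 5], 2563)) (.leaf ([0, 3, 1, 1, 2, 0, 3, 0, 0, 2], 9734))) (.node (.leaf ([2, 1, 5, 2, 1, 5, 3, 5, 0, 0, 0], 16902)) (.leaf ([255, 0], 3)))) (.node (.node (.leaf ([3, 4, 3, 5, 4, 5, 0, 0, 0, 4, 0], 18442)) (.leaf ([2, 0, 0, 3, 6, 5, 1, 1, 5, 6], 14354))) (.node (.leaf ([6, 4, 6, 1, 2, 4, 6, 4, 3, 0], 12802)) (.leaf ([255, 0], 3))))) (.node (.node (.node (.leaf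 ([0, 6, 0, 5, 0, 0, 5, 6, 0, 6], 15372)) (.leaf ([5, 1, 5, 0, 5, 1, 3, 0, 0, 2], 11270))) (.node (.leaf ([0, 0, 2, 0, 3, 1, 1, 2, 0, 3], 9728)) (.leaf ([255, 0], 3)))) (.node (.node (.leaf ([0, 0, 0, 3, 4, 0, 2, 4, 3, 0, 2], 17920)) (.leaf ([255, 0], 3))) (.node (.leaf ([3, 0, 6, 4, 6, 1, 2, 4, 6, 4], 12818)) (.leaf ([255, 0], 3)))))) (.node (.node (.node (.node (.leaf ([1, 2, 1, 6, 2, 0, 0, 6, 3], 5128)) (.leaf ([5, 0, 6, 5, 0, 6, 5, 0, 6], 8202))) (.node (.leaf ([0, 4, 0, 3, 4, 3, 5, 4, 5, 0, 0], 18436)) (.leaf ([255, 0], 3)))) (.node (.node (.leaf ([6, 5, 0, 0, 5, 1, 6, 1, 6, 1], 14864)) (.leaf ([255, 0], 3))) (.node (.leaf ([0, 0, 6, 3, 1, 2, 1, 6, 2], 5120)) (.leaf ([255, 0], 3))))) (.node (.node (.node (.leaf ([5, 0, 5, 3, 0, 0, 2, 0, 5, 1], 10252)) (.leaf ([5, 6, 0, 6, 0,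 6, 0, 5, 0, 0], 15364))) (.node (.leaf ([0, 2, 0, 0, 0, 3, 4, 0, 2, 4, 3], 17938)) (.leaf ([255, 0], 3)))) (.node (.node (.leaf ([6, 5, 0, 6, 5, 0, 6, 5, 0], 8200)) (.leaf ([255, 0], 3))) (.node (.leaf ([4, 3, 4, 2, 2, 4, 3, 4, 3], 4108)) (.leaf ([255, 0], 3))))))) (.node (.node (.node (.node (.node (.leaf ([0, 3, 1, 3, 1, 3, 1, 3, 0, 0], 8708)) (.leaf ([0, 0, 4, 0, 4, 2, 5, 4, 5, 2, 0], 19458))) (.node (.leaf ([3, 5, 4, 5, 3, 4, 1, 4, 0], 3586)) (.leaf ([255, 0], 3)))) (.node (.node (.leaf ([2, 2, 6, 1, 6, 3, 1, 6, 0], 5634)) (.leaf ([255, 0], 3))) (.node (.leaf ([6, 3, 1, 2, 1, 6, 2, 0, 0], 5124)) (.leaf ([255, 0], 3))))) (.node (.node (.node (.leaf ([5, 4, 5, 0, 0, 0, 4, 0, 3, 4, 3], 18448)) (.leaf ([0, 5, 0, 5, 0, 5, 6, 0, 0, 6], 15878))) (.node (.leaf ([6, 3, 6, 2, 2, 6, 3,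 6, 3], 7692)) (.leaf ([255, 0], 3)))) (.node (.node (.leaf ([5, 5], 2560)) (.leaf ([255, 0], 3))) (.node (.leaf ([0, 6, 0, 6, 0, 5, 0, 0, 5, 6], 15368)) (.leaf ([255, 0], 3)))))) (.node (.node (.node (.node (.leaf ([0, 0, 2, 0, 3, 0, 0, 2, 0, 3], 9226)) (.leaf ([0, 2, 1, 3, 0, 0, 2, 1, 3, 0], 10754))) (.node (.leaf ([0, 5, 1, 3, 0, 0, 2, 5, 1, 5], 11276)) (.leaf ([255, 0], 3)))) (.node (.node (.leaf ([3, 6, 1, 2, 6, 2, 0, 6, 3, 0], 11778)) (.leaf ([255, 0], 3))) (.node (.leaf ([0, 6, 2, 0, 6, 2, 0, 6, 2], 7180)) (.leaf ([255, 0], 3))))) (.node (.node (.node (.leaf ([5, 3, 5, 0, 0, 0, 2, 1, 5, 2, 1], 16912)) (.leaf ([0, 0, 4, 0, 3, 4, 3, 5, 4, 5, 0], 18434))) (.node (.leaf ([5, 1, 3, 0, 0, 2, 5, 1, 5, 0], 11278)) (.leaf ([255, 0], 3)))) (.node (.node (.leaf ([3, 4, 3, 4, 2, 2, 4,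 3, 4], 4106)) (.leaf ([255, 0], 3))) (.node (.leaf ([0, 2, 0, 3, 0, 0, 2, 0, 3, 0], 9218)) (.leaf ([255, 0], 3)))))))) (.node (.node (.node (.node (.node (.node (.leaf ([0, 2, 6, 0, 0, 3, 6, 0, 3], 4620)) (.leaf ([4, 5, 3, 4, 0, 0, 0, 4, 0, 3, 5], 18958))) (.node (.leaf ([3, 6, 2, 2, 6, 3, 6, 3, 6], 7694)) (.leaf ([255, 0], 3)))) (.node (.node (.leaf ([6, 1, 6, 5, 0, 0, 5, 1, 6, 1], 14860)) (.leaf ([255, 0], 3))) (.node (.leaf ([0, 0, 3, 6, 5, 0, 0, 5, 6, 2], 13824)) (.leaf ([255, 0], 3))))) (.node (.node (.node (.leaf ([5, 4, 5, 2, 0, 0, 0, 4, 0, 4, 2], 19470)) (.leaf ([0, 2, 1, 5, 2, 1, 5, 3, 5, 0, 0], 16900))) (.node (.leaf ([0, 6, 2, 0, 6, 2, 0, 6, 2], 7174)) (.leaf ([255, 0], 3)))) (.node (.node (.leaf ([0, 2, 4, 3, 0, 2, 0, 0, 0, 3, 4], 17930)) (.leaf ([255, 0], 3))) (.node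 (.leaf ([1, 5, 6, 2, 0, 0, 3, 6, 5, 1], 14348)) (.leaf ([255, 0], 3)))))) (.node (.node (.node (.node (.leaf ([3, 0, 0, 2, 1, 3, 0, 0, 2, 1], 10770)) (.leaf ([3, 0, 0, 2, 0, 3, 0, 0, 2, 0], 9234))) (.node (.leaf ([0, 0, 2, 4, 3, 1, 4, 2, 0, 3, 0], 17410)) (.leaf ([255, 0], 3)))) (.node (.node (.leaf ([0, 0, 3, 1, 3, 1, 3, 1, 3, 0], 8706)) (.leaf ([255, 0], 3))) (.node (.leaf ([0, 0, 6, 5, 1, 5, 1, 5, 1, 6], 16384)) (.leaf ([255, 0], 3))))) (.node (.node (.node (.leaf ([4, 5, 0, 0, 0, 4, 0, 3, 4, 3, 5], 18450)) (.leaf ([0, 3, 6, 0, 3, 6, 0, 3, 6], 6668))) (.node (.leaf ([0, 3, 0, 0, 2, 0, 3, 0, 0, 2], 9232)) (.leaf ([255, 0], 3)))) (.node (.node (.leaf ([0, 3, 0, 0, 0, 2, 4, 3, 1, 4, 2], 17426)) (.leaf ([255, 0], 3))) (.node (.leaf ([5, 1, 6, 0, 0, 6, 5, 1, 5, 1], 16398)) (.leaf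 ([255, 0], 3))))))) (.node (.node (.node (.node (.node (.leaf ([6, 3, 6, 3, 6, 3, 6, 2, 2], 7684)) (.leaf ([6, 3, 3, 0, 6, 2, 0, 6, 2, 0], 12302))) (.node (.leaf ([3, 0, 0, 2, 5, 1, 5, 0, 5, 1], 11282)) (.leaf ([255, 0], 3)))) (.node (.node (.leaf ([2, 1, 6, 2, 0, 0, 6, 3, 1], 5130)) (.leaf ([255, 0], 3))) (.node (.leaf ([3, 6, 3, 6, 3, 6, 2, 2, 6], 7686)) (.leaf ([255, 0], 3))))) (.node (.node (.node (.leaf ([4, 1, 4, 0, 3, 5, 4, 5, 3], 3596)) (.leaf ([1, 1, 5, 6, 2, 0, 0, 3, 6, 5], 14346))) (.node (.leaf ([3, 1, 3, 0, 0, 0, 3, 1, 3, 1], 8718)) (.leaf ([255, 0], 3)))) (.node (.node (.leaf ([4, 4], 2048)) (.leaf ([255, 0], 3))) (.node (.leaf ([0, 5, 1, 5, 0, 5, 3, 0, 0, 2], 10246)) (.leaf ([255, 0], 3)))))) (.node (.node (.node (.node (.leaf ([3, 1, 4, 2, 0, 3, 0, 0, 0, 2, 4], 17418))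 (.leaf ([6, 5, 0, 6, 5, 0, 6, 5, 0], 8206))) (.node (.leaf ([0, 3, 6, 1, 2, 6, 2, 0, 6, 3], 11776)) (.leaf ([255, 0], 3)))) (.node (.node (.leaf ([2, 2, 6, 3, 6, 3, 6, 3, 6], 7680)) (.leaf ([255, 0], 3))) (.node (.leaf ([0, 6, 3, 3, 0, 6, 2, 0, 6, 2], 12300)) (.leaf ([255, 0], 3))))) (.node (.node (.node (.leaf ([5, 3, 0, 0, 2, 0, 5, 1, 5, 0], 10256)) (.leaf ([0, 3, 6, 5, 1, 1, 5, 6, 2, 0], 14338))) (.node (.leaf ([2, 0, 0, 0, 4, 0, 4, 2, 5, 4, 5], 19476)) (.leaf ([255, 0], 3)))) (.node (.node (.leaf ([1, 3, 1, 3, 1, 3, 0, 0, 0, 3], 8712)) (.leaf ([255, 0], 3))) (.node (.leaf ([2, 6, 2, 0, 6, 3, 0, 3, 6, 1], 11784)) (.leaf ([255, 0], 3)))))))))))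

def rels : List (List Nat) := [[0, 1], [1, 0], [2, 3], [3, 2], [4, 4], [5, 5], [6, 6], [0, 3, 5, 4, 5, 3, 4, 1, 4], [2, 2, 4, 3, 4, 3, 4, 3, 4], [0, 0, 3, 6, 0, 3, 0, 2, 6], [0, 0, 6, 3, 1, 2, 1, 6, 2], [0, 2, 2, 6, 1, 6, 3, 1, 6], [0, 3, 3, 6, 0, 6, 2, 1, 6], [0, 3, 6, 0, 3, 6, 0, 3, 6], [0, 6, 2, 0, 6, 2, 0, 6, 2], [2, 2, 6, 3, 6, 3, 6, 3, 6], [0, 6, 5, 0, 6, 5, 0, 6, 5], [0, 0, 0, 3, 1, 3, 1, 3, 1, 3], [0, 0, 2, 0, 3, 0, 0, 2, 0, 3], [0, 0, 2, 0, 3, 1, 1, 2, 0, 3], [0, 0, 2, 0, 5, 1, 5, 0, 5, 3], [0, 0, 2, 1, 3, 0, 0, 2, 1, 3], [0, 0, 2, 5, 1, 5, 0, 5, 1, 3], [0, 3, 6, 1, 2, 6, 2, 0, 6, 3], [0, 6, 2, 0, 6, 2, 0, 6, 3, 3], [0, 6, 4, 6, 1, 2, 4, 6, 4, 3], [2, 2, 6, 3, 6, 2, 2, 6, 3, 6], [0, 0, 3, 6, 5, 0, 0, 5, 6, 2], [0, 0, 3, 6, 5, 1, 1, 5, 6, 2], [0, 0, 5, 1, 6, 1, 6, 1, 6,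 5], [0, 0, 5, 6, 0, 6, 0, 6, 0, 5], [0, 0, 6, 0, 5, 0, 5, 0, 5, 6], [0, 0, 6, 5, 1, 5, 1, 5, 1, 6], [0, 0, 0, 2, 1, 5, 2, 1, 5, 3, 5], [0, 0, 0, 2, 4, 3, 1, 4, 2, 0, 3], [0, 0, 0, 3, 4, 0, 2, 4, 3, 0, 2], [0, 0, 0, 4, 0, 3, 4, 3, 5, 4, 5], [0, 0, 0, 4, 0, 3, 5, 4, 5, 3, 4], [0, 0, 0, 4, 0, 4, 2, 5, 4, 5, 2]]

def subs : List (List Nat) := [[0], [1], [2], [3], [4], [5]]

end CfsgLib.McLUniq.TG
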