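import Cfsg.Agent.Coset.Blocks
import Cfsg.Agent.McLUniq.Rels
import Cfsg.Agent.McLUniq.TGRules
import Cfsg.Agent.McLUniq.TGEdges
import Cfsg.Agent.McLUniq.TGSteps

/-! Deduction steps of the coset table, part 2. -/

set_option autoImplicit false
set_option maxRecDepth 100000
set_option Elab.async false

namespace CfsgLib.McLUniq.TG

open CfsgLib.Coset

theorem hsteps16 : belowBlock 5 967 (chunkAt E McLUniq.iv R 7 25008 C) 16 = true := by decide +kernel
theorem hsteps17 : belowBlock 5 967 (chunkAt E McLUniq.iv R 7 25008 C) 17 = true := by decide +kernel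
theorem hsteps18 : belowBlock 5 967 (chunkAt E McLUniq.iv R 7 25008 C) 18 = true := by decide +kernel
theorem hsteps19 : belowBlock 5 967 (chunkAt E McLUniq.iv R 7 25008 C) 19 = true := by decide +kernel
theorem hsteps20 : belowBlock 5 967 (chunkAt E McLUniq.iv R 7 25008 C) 20 = true := by decide +kernel
theorem hsteps21 : belowBlock 5 967 (chunkAt E McLUniq.iv R 7 25008 C) 21 = true := by decide +kernel
theorem hsteps22 : belowBlock 5 967 (chunkAt E McLUniq.iv R 7 25008 C) 22 = true := by decide +kernel
theorem hsteps23 : belowBlock 5 967 (chunkAt E McLUniq.iv R 7 25008 C) 23 = true := by decide +kernel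

end CfsgLib.McLUniq.TG
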