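import Cfsg.Agent.Coset.Blocks
import Cfsg.Agent.McLUniq.Rels
import Cfsg.Agent.McLUniq.TGRules
import Cfsg.Agent.McLUniq.TGEdges
import Cfsg.Agent.McLUniq.TGSteps

/-! Deduction steps of the coset table, part 3. -/

set_option autoImplicit false
set_option maxRecDepth 100000
set_option Elab.async false

namespace CfsgLib.McLUniq.TG

open CfsgLib.Coset

theorem hsteps24 : belowBlock 5 967 (chunkAt E McLUniq.iv R 7 25008 C) 24 = true := by decide +kernel
theorem hsteps25 : belowBlock 5 967 (chunkAt E McLUniq.iv R 7 25008 C) 25 = true := by decide +kernel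
theorem hsteps26 : belowBlock 5 967 (chunkAt E McLUniq.iv R 7 25008 C) 26 = true := by decide +kernel
theorem hsteps27 : belowBlock 5 967 (chunkAt E McLUniq.iv R 7 25008 C) 27 = true := by decide +kernel
theorem hsteps28 : belowBlock 5 967 (chunkAt E McLUniq.iv R 7 25008 C) 28 = true := by decide +kernel
theorem hsteps29 : belowBlock 5 967 (chunkAt E McLUniq.iv R 7 25008 C) 29 = true := by decide +kernel
theorem hsteps30 : belowBlock 5 967 (chunkAt E McLUniq.iv R 7 25008 C) 30 = true := by decide +kernel
theorem hsteps31 : belowBlock 5 967 (chunkAt E McLUniq.iv R 7 25008 C) 31 = true := by decide +kernel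

end CfsgLib.McLUniq.TG
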