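import Cfsg.Agent.Coset.Blocks
import Cfsg.Agent.McLUniq.Rels
import Cfsg.Agent.McLUniq.TGSteps0
import Cfsg.Agent.McLUniq.TGSteps1
import Cfsg.Agent.McLUniq.TGSteps2
import Cfsg.Agent.McLUniq.TGSteps3
import Cfsg.Agent.McLUniq.TGTableCheck

/-! The checks of the coset table of the involution centralizer: 22275 cosets. -/

set_option autoImplicit false
set_option maxRecDepth 100000
set_option Elab.async false

namespace CfsgLib.McLUniq.TG

open CfsgLib.Coset

theorem hR : checkRules rels subs R = true := by decide +kernel
theorem hdefs : checkDefs E 7 15 25008 = true := by decide +kernel
theorem hsteps : checkChunks E McLUniq.iv R 7 (5 + 5) 25008 967 C = true :=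
  checkChunks_of_blocks (by decide +kernel) fun b hb => by
    have : b < 32 := hb
    interval_cases b
    · exact hsteps0
    · exact hsteps1
    · exact hsteps2
    · exact hsteps3
    · exact hsteps4
    · exact hsteps5
    · exact hsteps6
    · exact hsteps7
    · exact hsteps8
    · exact hsteps9
    · exact hsteps10
    · exact hsteps11
    · exact hsteps12
    · exact hsteps13
    · exact hsteps14
    · exact hsteps15
    · exact hsteps16
    · exact hsteps17
    · exact hsteps18
    · exact hsteps19
    · exact hsteps20
    · exact hsteps21
    · exact hsteps22
    · exact hsteps23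
    · exact hsteps24
    · exact hsteps25
    · exact hsteps26
    · exact hsteps27
    · exact hsteps28
    · exact hsteps29
    · exact hsteps30
    · exact hsteps31

theorem htable : checkTable E McLUniq.iv (25008 + chunk * 967) 22275 7 (12 + 3) 3 Rep Ref Tb = true :=
  checkTable_of_blocks (by decide +kernel) (by decide +kernel) fun b hb => by
    have : b < 8 := hb
    interval_cases b
    · exact htable0
    · exact htable1
    · exact htable2
    · exact htable3
    · exact htable4
    · exact htable5
    · exact htable6
    · exact htable7

end CfsgLib.McLUniq.TG
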