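import Cfsg.Agent.Coset.Chain
import Cfsg.Agent.McLUniq.TG

/-!
Seven elements satisfying the relators generate a group in which the subgroup of the first six has index
at most 22275.
-/

set_option autoImplicit false
set_option maxRecDepth 100000

namespace CfsgLib.McLUniq

open CfsgLib.Coset

theorem level : checkLevel rels 7 (List.range 7) [0, 1, 2, 3, 4, 5] TG.rels TG.subs = true := by decide +kernel

theorem pairs_mem : ([[0, 1], [1, 0], [2, 3], [3, 2], [4, 4], [5, 5], [6, 6]] : List (List Nat)).all
    (fun w => rels.contains w) = true := by decide +kernel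

variable {G : Type*} [Group G] {L : List G}

theorem Rels.inv (h : Rels L) (x : Nat) : fl L (iv x) = (fl L x)⁻¹ := by
  have hp : ∀ a b, [a, b] ∈ rels → fl L b = (fl L a)⁻¹ := fun a b hw => by
    have e := h.rel _ hw
    simp only [ev_cons, ev_nil, mul_one] at e
    exact (inv_eq_of_mul_eq_one_right e).symm
  have hm : ∀ w, ([[0, 1], [1, 0], [2, 3], [3, 2], [4, 4], [5, 5], [6, 6]] : List (List Nat)).contains w = true →
      w ∈ rels := fun w hw =>
    List.contains_iff_mem.1 (List.all_eq_true.1 pairs_mem w (List.contains_iff_mem.1 hw))
  rcases lt_or_ge x 7 with hx | hx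
  · interval_cases x
    · exact hp 0 1 (hm _ (by decide))
    · exact hp 1 0 (hm _ (by decide))
    · exact hp 2 3 (hm _ (by decide))
    · exact hp 3 2 (hm _ (by decide))
    · exact hp 4 4 (hm _ (by decide))
    · exact hp 5 5 (hm _ (by decide))
    · exact hp 6 6 (hm _ (by decide))
  · rw [iv, List.getD_eq_default _ _ (by simpa using hx), fl_of_le L (h.len ▸ hx), inv_one]

/-- The table holds in every group generated by letters satisfying the relators. -/
theorem Rels.table (h : Rels L) : TableOK L (subH L) TG.E iv 22275 TG.Rep TG.Tb := by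
  have hrel := level_rels h.len level h.rel
  have hsub := level_subs h.len level
  rw [show List.range 7 = List.range L.length by rw [h.len], lv_range] at hrel hsub
  exact tableOK_of_check h.inv TG.hR (h.len.symm ▸ TG.hdefs) (h.len.symm ▸ TG.hsteps)
    (h.len.symm ▸ TG.htable) hrel hsub

/-- The group has order at most 898128000. -/
theorem card_le {G : Type*} [Group G] {L : List G} (h : Rels L) (hf : Finite (subH L))
    (hc : Nat.card (subH L) ≤ 40320) : Finite (Subgroup.closure {x | x ∈ L}) ∧
      Nat.card (Subgroup.closure {x | x ∈ L} : Subgroup G) ≤ 898128000 := by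
  refine h.table.finite_card_le (by decide) ?_ hf hc
  refine (Subgroup.closure_le _).2 ?_
  rintro x hx
  obtain ⟨l, -, rfl⟩ := List.mem_map.1 hx
  exact mem_closure_fl l

end CfsgLib.McLUniq
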