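import Cfsg.Agent.McLUniq.GChecks
import Cfsg.Agent.DoubleAlt.Basic
import Cfsg.Agent.BPres.Carmichael
import Mathlib.GroupTheory.SpecificGroups.Alternating.Simple
import Mathlib.GroupTheory.QuotientGroup.Basic

/-!
# A double cover of the alternating group of degree eight is the group of the model
-/

set_option autoImplicit false
set_option maxRecDepth 100000
set_option linter.style.haveILetI false

namespace CfsgLib.McLUniq

open Subgroup CfsgLib.Coset CfsgLib.BPres

/-- The word uses the letters of the involution centralizer only. -/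
def W6 (w : List Nat) : Prop := ∀ l ∈ w, l < 6

theorem w6_of_inH {w : List Nat} (h : Cl.inH w = true) : W6 w := fun l hl => by
  simpa using List.all_eq_true.1 h l hl

theorem W6.append {u w : List Nat} (hu : W6 u) (hw : W6 w) : W6 (u ++ w) := fun l hl =>
  (List.mem_append.1 hl).elim (hu l) (hw l)

theorem W6.nil : W6 [] := fun _ h => absurd h List.not_mem_nil

theorem W6.of_inK {w : List Nat} (h : inK w = true) : W6 w := fun l hl => by
  have : l < 4 := by simpa using List.all_eq_true.1 h l hl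
  omega

theorem iv_lt_six {l : Nat} (hl : l < 6) : iv l < 6 := by
  interval_cases l <;> decide

theorem W6.invW {w : List Nat} (hw : W6 w) : W6 (invW w) := fun l hl => by
  obtain ⟨k, hk, rfl⟩ := List.mem_map.1 hl
  exact iv_lt_six (hw k (List.mem_reverse.1 hk))

theorem W6.flatMap {v : List Nat} {f : Nat → List Nat} (h : ∀ i ∈ v, W6 (f i)) : W6 (v.flatMap f) :=
  fun l hl => by
    obtain ⟨i, hi, hl⟩ := List.mem_flatMap.1 hl
    exact h i hi l hl

theorem ev_flatMap {G : Type*} [Group G] (L : List G) (f : Nat → List Nat) (v : List Nat) :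
    ev L (v.flatMap f) = (v.map fun i => ev L (f i)).prod := by
  induction v with
  | nil => simp
  | cons a v ih => rw [List.flatMap_cons, ev_append, ih, List.map_cons, List.prod_cons]

theorem mem_subH {w : List Nat} (hw : W6 w) : ev L0 w ∈ subH L0 :=
  ev_mem_genBy _ fun l hl => by
    have := hw l hl
    interval_cases l <;> simp

theorem fl_mem_subH {l : Nat} (hl : l < 6) : fl L0 l ∈ subH L0 := by
  have := mem_subH (w := [l]) fun k hk => by rw [List.mem_singleton.1 hk]; exact hl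
  simpa using this

theorem exists_word_subH {p : Equiv.Perm (Fin 275)} (hp : p ∈ subH L0) :
    ∃ w, W6 w ∧ ev L0 w = p := by
  induction hp using Subgroup.closure_induction with
  | mem y hy =>
    obtain ⟨l, hl, rfl⟩ := List.mem_map.1 hy
    refine ⟨[l], fun k hk => ?_, by simp⟩
    rw [List.mem_singleton.1 hk]
    fin_cases hl <;> decide
  | one => exact ⟨[], W6.nil, ev_nil _⟩
  | mul a b _ _ ha hb =>
    obtain ⟨u, hu, rfl⟩ := ha
    obtain ⟨v, hv, rfl⟩ := hb
    exact ⟨u ++ v, hu.append hv, ev_append _ _ _⟩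
  | inv a _ ha =>
    obtain ⟨u, hu, rfl⟩ := ha
    exact ⟨invW u, hu.invW, ev_invW u⟩

/-- The three-cycle under the number of an element of `xW`. -/
def cycA (i : Fin 6) : alternatingGroup (Fin 8) := cyc 6 7 (i.castLE (by norm_num))

theorem cycA_facts : ∀ i : Fin 6, i.castLE (by norm_num : 6 ≤ 8) ≠ (6 : Fin 8) ∧
    i.castLE (by norm_num : 6 ≤ 8) ≠ (7 : Fin 8) := by decide

theorem exists_cycA {k : Fin 8} (h6 : k ≠ 6) (h7 : k ≠ 7) : ∃ i : Fin 6, cyc 6 7 k = cycA i := by
  have : k.val < 6 := by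
    have := k.2
    have : k.val ≠ 6 := fun h => h6 (Fin.ext h)
    have : k.val ≠ 7 := fun h => h7 (Fin.ext h)
    omega
  exact ⟨⟨k.val, this⟩, rfl⟩

/-- An identification of the model centralizer with the centralizer of an involution. -/
structure Phi {G : Type*} [Group G] [Finite G] (t : G) where
  /-- The projection of the centralizer. -/
  D : DoubleAlt.Data t 8
  /-- The map. -/
  f : ↥(subH L0) →* G
  inj : Function.Injective f
  range : f.range = centralizer ({t} : Set G)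
  t_eq : ∀ h, f ⟨ev L0 tW, h⟩ = t
  img : ∀ (i : Fin 6) (h), D.Img (f ⟨ev L0 (xW.getD i.val []), h⟩) (cycA i).val

section Exists

variable {G : Type*} [Group G] [Finite G] {t : G}

theorem card_cover {H : Type*} [Group H] {n : ℕ}
    (h : Cfsg.IsNonsplitDoubleCover H (alternatingGroup (Fin n))) :
    Nat.card H = 2 * Nat.card (alternatingGroup (Fin n)) := by
  obtain ⟨hc, ⟨e⟩, -⟩ := h
  rw [← Nat.card_congr e.toEquiv, ← hc, mul_comm, ← Subgroup.card_eq_card_quotient_mul_card_subgroup]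

theorem card_alt8 : Nat.card (alternatingGroup (Fin 8)) = 20160 := by
  have h4 := two_mul_nat_card_alternatingGroup (α := Fin 8)
  rw [Nat.card_perm, Nat.card_fin] at h4
  have : (8 : ℕ).factorial = 40320 := rfl
  omega

theorem exists_lift (D : DoubleAlt.Data t 8) (i : Fin 6) :
    ∃ g, D.Img g (cycA i).val ∧ g * g * g = 1 := by
  obtain ⟨g, hg⟩ := D.exists_img (π := (cycA i).val) (cycA i).2
  have h3 : D.Img (g * g * g) 1 := by
    have h := (hg.mul hg).mul hg
    have e : (cycA i).val * (cycA i).val * (cycA i).val = 1 := by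
      have := congrArg Subtype.val (cyc_cube (a := (6 : Fin 8)) (b := 7) (i := i.castLE (by norm_num))
        (by decide) (cycA_facts i).1.symm (cycA_facts i).2.symm)
      simpa [cycA, pow_succ] using this
    rwa [e] at h
  rcases h3.eq_one with h | h
  · exact ⟨g, hg, h⟩
  · refine ⟨g * t, by simpa using hg.mul D.img_z, ?_⟩
    calc g * t * (g * t) * (g * t) = g * (t * g) * t * (g * t) := by group
      _ = g * g * (t * t) * g * t := by rw [← hg.comm.eq]; group
      _ = 1 := by rw [D.z_sq, mul_one, h, D.z_sq]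

theorem pair_sq (D : DoubleAlt.Data t 8) {i j : Fin 6} (hij : i ≠ j) {g g' : G}
    (hg : D.Img g (cycA i).val) (hg' : D.Img g' (cycA j).val) : g * g' * (g * g') = t := by
  refine (hg.mul hg').double_sq ?_
  obtain ⟨i6, i7⟩ := cycA_facts i
  obtain ⟨j6, j7⟩ := cycA_facts j
  have hne : i.castLE (by norm_num : 6 ≤ 8) ≠ j.castLE (by norm_num : 6 ≤ 8) := fun e =>
    hij (Fin.castLE_injective (by norm_num : 6 ≤ 8) e)
  simp only [cycA]
  rw [cyc_val (by decide) i6.symm, cyc_val (by decide) j6.symm]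
  set a := i.castLE (by norm_num : 6 ≤ 8)
  set b := j.castLE (by norm_num : 6 ≤ 8)
  have e : Equiv.swap (6 : Fin 8) 7 * (Equiv.swap 6 b * Equiv.swap 6 7) = Equiv.swap 7 b := by
    have h := Equiv.swap_apply_apply (Equiv.swap (6 : Fin 8) 7) 6 b
    rw [Equiv.swap_apply_left, Equiv.swap_apply_of_ne_of_ne j6 j7, Equiv.swap_inv] at h
    rw [← mul_assoc]; exact h.symm
  rw [mul_assoc, e]
  exact (AltOre.double_cycleType i6.symm j7.symm (by decide) j6.symm i7 hne).1

theorem eqW_of {u w : List Nat} {p : Bool} (h : eqW u w = p) (hp : p = true) : ev L0 u = ev L0 w :=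
  ev_eq_of_eqW (h.trans hp)

/-- The model map exists. -/
theorem exists_phi (ht : orderOf t = 2)
    (hcov : Cfsg.IsNonsplitDoubleCover (centralizer ({t} : Set G)) (alternatingGroup (Fin 8))) :
    Nonempty (Phi t) := by
  classical
  obtain ⟨D⟩ := DoubleAlt.exists_data (by norm_num) ht hcov
  choose x hx hx3 using exists_lift D
  have hc := cover_ok
  simp only [coverOK, Bool.and_eq_true, Bool.not_eq_true', List.all_eq_true, List.mem_range,
    Bool.or_eq_true, Nat.beq_eq] at hc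
  obtain ⟨⟨⟨⟨⟨⟨⟨⟨hxl, hxH⟩, htH⟩, -⟩, -⟩, htt⟩, htne⟩, hx0⟩, hrel⟩ := hc
  set T := ev L0 tW with hT
  let X : Fin 6 → Equiv.Perm (Fin 275) := fun i => ev L0 (xW.getD i.val [])
  have hX3 : ∀ i, X i * X i * X i = 1 := fun i => by
    have := ev_eq_of_eqW (hrel i.val i.2).1.1
    simpa [ev_append, X, mul_assoc] using this
  have hXT : ∀ i, X i * T = T * X i := fun i => by
    have := ev_eq_of_eqW (hrel i.val i.2).1.2
    simpa [ev_append, X, hT] using this
  have hXX : ∀ i j : Fin 6, i ≠ j → X i * X j * (X i * X j) = T := fun i j hij => by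
    rcases (hrel i.val i.2).2 j.val j.2 with h | h
    · exact absurd (Fin.ext h) hij
    · simpa [ev_append, X, hT, mul_assoc] using ev_eq_of_eqW h
  have hTT : T * T = 1 := by simpa [ev_append, hT] using ev_eq_of_eqW htt
  let P : Set (Equiv.Perm (Fin 275) × G) := insert (T, t) (Set.range fun i => (X i, x i))
  set Γ := Subgroup.closure P with hΓ
  have hzmem : ((T, t) : Equiv.Perm (Fin 275) × G) ∈ Γ := subset_closure (Set.mem_insert _ _)
  have hpmem : ∀ i, ((X i, x i) : Equiv.Perm (Fin 275) × G) ∈ Γ := fun i =>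
    subset_closure (Set.mem_insert_of_mem _ ⟨i, rfl⟩)
  let z : Γ := ⟨(T, t), hzmem⟩
  have hzc : ∀ γ : Γ, γ * z = z * γ := by
    rintro ⟨γ, hγ⟩
    apply Subtype.ext
    show γ * (T, t) = (T, t) * γ
    induction hγ using Subgroup.closure_induction with
    | mem y hy =>
      rcases Set.mem_insert_iff.1 hy with rfl | ⟨i, rfl⟩
      · rfl
      · exact Prod.ext (hXT i) (hx i).comm.eq
    | one => simp
    | mul a b _ _ ha hb => rw [mul_assoc, hb, ← mul_assoc, ha, mul_assoc]
    | inv a _ ha => exact (Commute.inv_left ha : Commute a⁻¹ (T, t)).eq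
  set Z := Subgroup.zpowers z with hZdef
  haveI : Z.Normal := ⟨fun n hn g => by
    obtain ⟨k, rfl⟩ := Subgroup.mem_zpowers_iff.1 hn
    rw [((show Commute g z from hzc g).zpow_right k).eq, mul_inv_cancel_right]
    exact hn⟩
  have hZ : Nat.card Z ≤ 2 := by
    rw [hZdef, Nat.card_zpowers]
    exact Nat.le_of_dvd (by norm_num)
      (orderOf_dvd_of_pow_eq_one (Subtype.ext (by
        show ((T, t) : Equiv.Perm (Fin 275) × G) ^ 2 = 1
        rw [pow_two]; exact Prod.ext hTT D.z_sq)))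
  let y : Fin 6 → Γ ⧸ Z := fun i => QuotientGroup.mk' Z ⟨(X i, x i), hpmem i⟩
  obtain ⟨-, hb⟩ := carmichael_bound y Finset.univ (fun i _ => by
      rw [pow_succ, pow_two, ← map_mul, ← map_mul]
      refine (QuotientGroup.eq_one_iff _).2 ?_
      rw [show (⟨(X i, x i), hpmem i⟩ : Γ) * ⟨(X i, x i), hpmem i⟩ * ⟨(X i, x i), hpmem i⟩ = 1 from
        Subtype.ext (Prod.ext (hX3 i) (hx3 i))]
      exact one_mem _)
    (fun i _ j _ hij => by
      rw [pow_two, ← map_mul, ← map_mul]
      refine (QuotientGroup.eq_one_iff _).2 ?_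
      rw [show (⟨(X i, x i), hpmem i⟩ : Γ) * ⟨(X j, x j), hpmem j⟩ *
        (⟨(X i, x i), hpmem i⟩ * ⟨(X j, x j), hpmem j⟩) = z from
        Subtype.ext (Prod.ext (hXX i j hij) (pair_sq D hij (hx i) (hx j)))]
      exact mem_zpowers z)
  have hgen : Subgroup.closure (y '' ((Finset.univ : Finset (Fin 6)) : Set (Fin 6))) = ⊤ := by
    rw [eq_top_iff]
    rintro q -
    obtain ⟨⟨γ, hγ⟩, rfl⟩ := QuotientGroup.mk'_surjective Z q
    induction hγ using Subgroup.closure_induction with
    | mem p hp =>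
      rcases Set.mem_insert_iff.1 hp with rfl | ⟨i, rfl⟩
      · rw [show QuotientGroup.mk' Z ⟨(T, t), _⟩ = 1 from (QuotientGroup.eq_one_iff _).2 (mem_zpowers z)]
        exact one_mem _
      · exact subset_closure ⟨i, by simp, rfl⟩
    | one =>
      rw [show (⟨1, one_mem _⟩ : Γ) = 1 from rfl, map_one]
      exact one_mem _
    | mul a b ha hb ha' hb' =>
      rw [show (⟨a * b, mul_mem ha hb⟩ : Γ) = ⟨a, ha⟩ * ⟨b, hb⟩ from rfl, map_mul]
      exact mul_mem ha' hb'
    | inv a ha ha' =>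
      rw [show (⟨a⁻¹, inv_mem ha⟩ : Γ) = ⟨a, ha⟩⁻¹ from rfl, map_inv]
      exact inv_mem ha'
  rw [hgen, Subgroup.card_top, Finset.card_univ, Fintype.card_fin] at hb
  have h8 : (6 + 2).factorial = 40320 := rfl
  have hΓcard : Nat.card Γ ≤ 40320 := by
    rw [Subgroup.card_eq_card_quotient_mul_card_subgroup Z]
    calc Nat.card (Γ ⧸ Z) * Nat.card Z ≤ Nat.card (Γ ⧸ Z) * 2 := Nat.mul_le_mul_left _ hZ
      _ ≤ 40320 := by omega
  -- the second projection
  set C := centralizer ({t} : Set G) with hCdef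
  have hsC : ∀ γ ∈ Γ, γ.2 ∈ C := fun γ hγ => by
    induction hγ using Subgroup.closure_induction with
    | mem p hp =>
      rcases Set.mem_insert_iff.1 hp with rfl | ⟨i, rfl⟩
      · exact mem_centralizer_singleton_iff.2 rfl
      · exact mem_centralizer_singleton_iff.2 (hx i).comm.eq
    | one => exact one_mem _
    | mul a b _ _ ha hb => exact mul_mem ha hb
    | inv a _ ha => exact inv_mem ha
  let sA : Subgroup (alternatingGroup (Fin 8)) :=
    { carrier := {σ | ∃ γ ∈ Γ, D.Img γ.2 σ.val}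
      one_mem' := ⟨1, one_mem _, D.img_one⟩
      mul_mem' := by
        rintro σ τ ⟨γ, hγ, h⟩ ⟨δ, hδ, h'⟩
        exact ⟨γ * δ, mul_mem hγ hδ, h.mul h'⟩
      inv_mem' := by
        rintro σ ⟨γ, hγ, h⟩
        exact ⟨γ⁻¹, inv_mem hγ, h.inv⟩ }
  have hsA : sA = ⊤ := by
    rw [eq_top_iff, ← closure_cyc (a := (6 : Fin 8)) (b := 7) (by decide), Subgroup.closure_le]
    rintro _ ⟨k, h6, h7, rfl⟩
    obtain ⟨i, e⟩ := exists_cycA h6 h7
    rw [e]
    exact ⟨(X i, x i), hpmem i, hx i⟩
  have hsurj : ∀ g ∈ C, ∃ γ ∈ Γ, γ.2 = g := fun g hg => by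
    obtain ⟨π, hπ⟩ := D.img_of_comm (mem_centralizer_singleton_iff.1 hg)
    obtain ⟨γ, hγ, h⟩ := (hsA ▸ mem_top (⟨π, hπ.sgn⟩ : alternatingGroup (Fin 8)) : (⟨π, hπ.sgn⟩ : alternatingGroup (Fin 8)) ∈ sA)
    rcases hπ.eq_or h with e | e
    · exact ⟨γ, hγ, e.symm⟩
    · exact ⟨γ * (T, t), mul_mem hγ hzmem, e.symm⟩
  let s2 : Γ →* C := ((MonoidHom.snd _ _).comp Γ.subtype).codRestrict C fun γ => hsC γ.1 γ.2
  have s2surj : Function.Surjective s2 := fun g => by
    obtain ⟨γ, hγ, e⟩ := hsurj g.1 g.2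
    exact ⟨⟨γ, hγ⟩, Subtype.ext e⟩
  have hC : Nat.card C = 40320 := by rw [card_cover hcov, card_alt8]
  have s2bij : Function.Bijective s2 := s2surj.bijective_of_nat_card_le (hC.symm ▸ hΓcard)
  have s2inj : ∀ γ ∈ Γ, ∀ δ ∈ Γ, (γ : Equiv.Perm (Fin 275) × G).2 = δ.2 → γ = δ := fun γ hγ δ hδ e =>
    congrArg Subtype.val (s2bij.1 (a₁ := ⟨γ, hγ⟩) (a₂ := ⟨δ, hδ⟩) (Subtype.ext e))
  -- the first projection is injective
  have hTne : T ≠ 1 := fun e => by
    rw [eqW] at htne
    have : eqW tW [] = true := List.all_eq_true.2 fun v hv => by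
      have := congrArg (fun g : Equiv.Perm (Fin 275) => (g ⟨v, List.mem_range.1 hv⟩).val) e
      simp only [hT, ev_apply, Equiv.Perm.coe_one, id_eq] at this
      rw [this]; exact Nat.beq_refl v
    rw [eqW] at this
    rw [this] at htne
    exact absurd htne (by simp)
  have hX0 : X 0 ≠ 1 := fun e => by
    have : eqW (xW.getD 0 []) [] = true := List.all_eq_true.2 fun v hv => by
      have := congrArg (fun g : Equiv.Perm (Fin 275) => (g ⟨v, List.mem_range.1 hv⟩).val) e
      simp only [X, ev_apply, Equiv.Perm.coe_one, id_eq, Fin.val_zero] at this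
      rw [this]; exact Nat.beq_refl v
    rw [this] at hx0
    exact absurd hx0 (by simp)
  let kA : Subgroup (alternatingGroup (Fin 8)) :=
    { carrier := {σ | ∃ γ ∈ Γ, γ.1 = 1 ∧ D.Img γ.2 σ.val}
      one_mem' := ⟨1, one_mem _, rfl, D.img_one⟩
      mul_mem' := by
        rintro σ τ ⟨γ, hγ, h1, h⟩ ⟨δ, hδ, h1', h'⟩
        exact ⟨γ * δ, mul_mem hγ hδ, by rw [Prod.fst_mul, h1, h1', one_mul], h.mul h'⟩
      inv_mem' := by
        rintro σ ⟨γ, hγ, h1, h⟩
        exact ⟨γ⁻¹, inv_mem hγ, by rw [Prod.fst_inv, h1, inv_one], h.inv⟩ }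
  haveI : kA.Normal := ⟨by
    rintro σ ⟨γ, hγ, h1, h⟩ τ
    obtain ⟨δ, hδ, h'⟩ := (hsA ▸ mem_top τ : τ ∈ sA)
    exact ⟨δ * γ * δ⁻¹, mul_mem (mul_mem hδ hγ) (inv_mem hδ),
      by rw [Prod.fst_mul, Prod.fst_mul, h1, Prod.fst_inv, mul_one, mul_inv_cancel], h'.conj h⟩⟩
  haveI := alternatingGroup.isSimpleGroup (α := Fin 8) (by simp)
  have s1inj : ∀ γ ∈ Γ, (γ : Equiv.Perm (Fin 275) × G).1 = 1 → γ = 1 := by
    intro γ hγ h1
    rcases (inferInstance : IsSimpleGroup (alternatingGroup (Fin 8))).eq_bot_or_eq_top_of_normal kA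
      inferInstance with hk | hk
    · obtain ⟨π, hπ⟩ := D.img_of_comm (mem_centralizer_singleton_iff.1 (hsC γ hγ))
      have hmem : (⟨π, hπ.sgn⟩ : alternatingGroup (Fin 8)) ∈ kA := ⟨γ, hγ, h1, hπ⟩
      rw [hk, Subgroup.mem_bot] at hmem
      obtain rfl : π = 1 := congrArg Subtype.val hmem
      rcases hπ.eq_one with e | e
      · exact s2inj γ hγ 1 (one_mem _) e
      · have := s2inj γ hγ (T, t) hzmem e
        exact absurd (by rw [this] at h1; exact h1) hTne
    · exfalso
      obtain ⟨δ, hδ, d1, hd⟩ := (hk ▸ mem_top (cycA 0) : cycA 0 ∈ kA)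
      rcases (hx 0).eq_or hd with e | e
      · have := s2inj (X 0, x 0) (hpmem 0) δ hδ e
        exact hX0 (by rw [← d1, ← this])
      · have := s2inj (X 0, x 0) (hpmem 0) (δ * (T, t)) (mul_mem hδ hzmem) e
        have h0 : X 0 = T := by
          have := congrArg Prod.fst this
          simpa [d1] using this
        have h3 := hX3 0
        rw [h0, hTT, one_mul] at h3
        exact hTne h3
  have hH : ∀ γ ∈ Γ, (γ : Equiv.Perm (Fin 275) × G).1 ∈ subH L0 := fun γ hγ => by
    induction hγ using Subgroup.closure_induction with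
    | mem p hp =>
      rcases Set.mem_insert_iff.1 hp with rfl | ⟨i, rfl⟩
      · exact mem_subH (w6_of_inH htH)
      · refine mem_subH (w6_of_inH (hxH _ ?_))
        rw [List.getD_eq_getElem _ _ (by rw [hxl]; exact i.2)]
        exact List.getElem_mem _
    | one => exact one_mem _
    | mul a b _ _ ha hb => exact mul_mem ha hb
    | inv a _ ha => exact inv_mem ha
  let s1 : Γ →* subH L0 := ((MonoidHom.fst _ _).comp Γ.subtype).codRestrict _ fun γ => hH γ.1 γ.2
  have hg := coverGen_ok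
  simp only [coverGenOK, Bool.and_eq_true, List.all_eq_true, List.mem_range, decide_eq_true_eq,
    Bool.not_eq_true', Nat.beq_eq] at hg
  have hletX := hg.1.1.1.1.1.1.2
  have hlet : ∀ l, l < 6 → ∃ γ ∈ Γ, (γ : Equiv.Perm (Fin 275) × G).1 = fl L0 l := by
    intro l hl
    obtain ⟨he, hi⟩ := hletX l hl
    have e := ev_eq_of_eqW he
    rw [subX, ev_flatMap] at e
    simp only [ev_cons, ev_nil, mul_one] at e
    rw [e]
    generalize letX.getD l [] = v at hi ⊢
    induction v with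
    | nil => exact ⟨1, one_mem _, rfl⟩
    | cons a v ih =>
      obtain ⟨γ, hγ, eγ⟩ := ih fun i hm => hi i (List.mem_cons_of_mem _ hm)
      rw [List.map_cons, List.prod_cons]
      rcases eq_or_ne a 6 with rfl | ha
      · exact ⟨(T, t) * γ, mul_mem hzmem hγ, by simp [eγ, hT]⟩
      · have : a < 6 := by have := hi a List.mem_cons_self; omega
        refine ⟨(X ⟨a, this⟩, x ⟨a, this⟩) * γ, mul_mem (hpmem _) hγ, ?_⟩
        rw [Prod.fst_mul, eγ]
        congr 1
        rw [if_neg]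
        simpa using ha
  have s1surj : Function.Surjective s1 := by
    rintro ⟨p, hp⟩
    suffices ∃ γ ∈ Γ, (γ : Equiv.Perm (Fin 275) × G).1 = p by
      obtain ⟨γ, hγ, e⟩ := this
      exact ⟨⟨γ, hγ⟩, Subtype.ext e⟩
    induction hp using Subgroup.closure_induction with
    | mem q hq =>
      obtain ⟨l, hl, rfl⟩ := List.mem_map.1 hq
      exact hlet l (by fin_cases hl <;> decide)
    | one => exact ⟨1, one_mem _, rfl⟩
    | mul a b _ _ ha hb =>
      obtain ⟨γ, hγ, rfl⟩ := ha
      obtain ⟨δ, hδ, rfl⟩ := hb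
      exact ⟨γ * δ, mul_mem hγ hδ, rfl⟩
    | inv a _ ha =>
      obtain ⟨γ, hγ, rfl⟩ := ha
      exact ⟨γ⁻¹, inv_mem hγ, rfl⟩
  have s1i : Function.Injective s1 := (injective_iff_map_eq_one s1).2 fun γ e =>
    Subtype.ext (s1inj γ.1 γ.2 (congrArg Subtype.val e))
  let e1 : Γ ≃* subH L0 := MulEquiv.ofBijective s1 ⟨s1i, s1surj⟩
  let f : ↥(subH L0) →* G := (C.subtype.comp s2).comp e1.symm.toMonoidHom
  have hval : ∀ (γ : Equiv.Perm (Fin 275) × G) (hγ : γ ∈ Γ) (h), f ⟨γ.1, h⟩ = γ.2 := fun γ hγ h => by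
    have : e1.symm ⟨γ.1, h⟩ = ⟨γ, hγ⟩ := e1.symm_apply_eq.2 rfl
    show ((s2 (e1.symm ⟨γ.1, h⟩) : C) : G) = γ.2
    rw [this]; rfl
  refine ⟨⟨D, f, ?_, ?_, fun h => hval (T, t) hzmem h, fun i h => ?_⟩⟩
  · exact (C.subtype_injective.comp s2bij.1).comp e1.symm.injective
  · refine le_antisymm ?_ fun g hg => ?_
    · rintro _ ⟨a, rfl⟩
      exact (s2 (e1.symm a)).2
    · obtain ⟨γ, hγ, e⟩ := hsurj g hg
      exact ⟨⟨γ.1, hH γ hγ⟩, (hval γ hγ _).trans e⟩
  · rw [hval (X i, x i) (hpmem i) h]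
    exact hx i

end Exists

end CfsgLib.McLUniq
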