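import Cfsg.Agent.McLUniq.Classes

/-!
# The centralizer of two involutions and the stabilizer in the action on a class
-/

set_option autoImplicit false
set_option maxRecDepth 100000
set_option linter.unusedSectionVars false

namespace CfsgLib.McLUniq

open Subgroup CfsgLib.Coset

theorem inK_sub {w : List Nat} (h : inK w = true) (a : Nat) : ∀ l ∈ w, l ∈ ([0, 1, 2, 3, a] : List Nat) :=
  fun l hl => by
    have : l < 4 := by simpa using List.all_eq_true.1 h l hl
    interval_cases l <;> simp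

/-- The tests on the centralizer of two involutions for a class. -/
structure DTests (c : Cl) : Prop where
  d : dOK c = true
  gen : dGenOK c = true

theorem dOne : DTests one := ⟨d_one, dGen_one⟩

theorem dTwo : DTests two := ⟨d_two, dGen_two⟩

namespace DTests

variable {c : Cl} (hd : DTests c)
include hd

theorem facts : dW.length = 192 ∧ (∀ w ∈ dW, inK w = true) ∧
    (∀ i < 192, ∀ j < i, peq ((dP c).getD i (0, 0)) ((dP c).getD j (0, 0)) = false) ∧
    (∀ w ∈ dW, pcomm (c.pev w) (2, idM) = true ∧ c.inBar (c.pev w).2 = true) := by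
  have h := hd.d
  simp only [dOK, Bool.and_eq_true, List.all_eq_true, List.mem_range, Nat.beq_eq, Bool.not_eq_true', dP,
    List.mem_map, forall_exists_index, and_imp, forall_apply_eq_imp_iff₂] at h
  exact ⟨h.1.1.1, h.1.1.2, h.1.2, h.2⟩

theorem getD_pev {i : Nat} (hi : i < 192) : (dP c).getD i (0, 0) = c.pev (dW.getD i []) := by
  have hl := hd.facts.1
  simp [dP, List.getD_eq_getElem?_getD, List.getElem?_eq_getElem (show i < dW.length by omega)]

theorem pev_inj {i j : Nat} (hi : i < 192) (hj : j < 192) (e : c.pev (dW.getD i []) = c.pev (dW.getD j [])) :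
    i = j := by
  have h := hd.facts.2.2.1
  rw [← hd.getD_pev hi, ← hd.getD_pev hj] at e
  rcases lt_trichotomy i j with hh | hh | hh
  · have := h j hj i hh
    rw [e] at this
    simp [peq] at this
  · exact hh
  · have := h i hi j hh
    rw [e] at this
    simp [peq] at this

theorem inK_get {i : Nat} (hi : i < 192) : inK (dW.getD i []) = true := by
  have hl := hd.facts.1
  rw [List.getD_eq_getElem _ _ (show i < dW.length by omega)]
  exact hd.facts.2.1 _ (List.getElem_mem _)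

end DTests

theorem pcomm_two {p : Nat × Nat} (h : pcomm p (2, idM) = true) (hp : p.1 < 16) : apM p.2 2 = 2 := by
  have e := congrArg Prod.fst (eq_of_peq h)
  simp only [pmul, apM_idM hp] at e
  rw [Nat.xor_comm] at e
  exact Nat.xor_left_inj.1 e

namespace Phi

variable {G : Type*} [Group G] [Finite G] {t : G} (Φ : Phi t) {c : Cl} (hc : ClOK c) (hd : DTests c)
include hc hd

theorem pair_dW {w : List Nat} (hw : w ∈ dW) : Φ.Pair c (Φ.F w) (c.pev w) :=
  Φ.pair_word hc w (inK_sub (hd.facts.2.1 w hw) _)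

theorem dW_comm {w : List Nat} (hw : w ∈ dW) :
    Φ.F w ∈ centralizer ({t} : Set G) ⊓ centralizer ({Φ.s} : Set G) := by
  have hp := Φ.pair_dW hc hd hw
  refine ⟨Pair.mem Φ hc hp, mem_centralizer_singleton_iff.2 ?_⟩
  have h := Pair.isMat Φ hc hp 2 (by norm_num)
  rw [pcomm_two (hd.facts.2.2.2 w hw).1 hp.1, Φ.e_two hc, mul_inv_eq_iff_eq_mul] at h
  exact h

/-- The centralizer of both involutions consists of the listed elements. -/
theorem exists_dW (hC : Nat.card (centralizer ({t} : Set G)) = 40320) {g : G}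
    (hg : g ∈ centralizer ({t} : Set G)) (hs : g * Φ.s = Φ.s * g) : ∃ w ∈ dW, g = Φ.F w := by
  set S := centralizer ({t} : Set G) ⊓ centralizer ({Φ.s} : Set G)
  have hmem : ∀ i : Fin 192, dW.getD i.val [] ∈ dW := fun i => by
    have := hd.facts.1
    rw [List.getD_eq_getElem _ _ (show i.val < dW.length by omega)]
    exact List.getElem_mem _
  let φ : Fin 192 → S := fun i => ⟨Φ.F (dW.getD i.val []), Φ.dW_comm hc hd (hmem i)⟩
  have hφ : Function.Injective φ := fun i j e => by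
    have e1 : Φ.F (dW.getD i.val []) = Φ.F (dW.getD j.val []) := congrArg Subtype.val e
    have hi := Φ.pair_dW hc hd (hmem i)
    rw [e1] at hi
    exact Fin.ext (hd.pev_inj i.2 j.2 (Pair.unique Φ hc hi (Φ.pair_dW hc hd (hmem j))))
  have hbij : Function.Bijective φ :=
    hφ.bijective_of_nat_card_le (by rw [Nat.card_fin]; exact Φ.card_cent_le hC)
  obtain ⟨i, hi⟩ := hbij.2 ⟨g, hg, mem_centralizer_singleton_iff.2 hs⟩
  exact ⟨_, hmem i, (congrArg Subtype.val hi).symm⟩

/-- The group of a class is its own centralizer. -/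
theorem cent_E (hC : Nat.card (centralizer ({t} : Set G)) = 40320) {g : G}
    (h : ∀ v, v < 16 → g * Φ.e c v = Φ.e c v * g) : Φ.InE c g := by
  have hgC : g ∈ centralizer ({t} : Set G) := mem_centralizer_singleton_iff.2 (Φ.e_one hc ▸ h 1 (by norm_num))
  obtain ⟨w, hw, rfl⟩ := Φ.exists_dW hc hd hC hgC (Φ.e_two hc ▸ h 2 (by norm_num))
  obtain ⟨hv, wd, hwd, hX, hF⟩ := Φ.pair_dW hc hd hw
  set k := Φ.F (c.sub2 wd) with hk
  have hkeq : k = Φ.e c (c.pev w).1 * Φ.F w := by rw [hF, ← mul_assoc, Φ.e_sq hc, one_mul]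
  have hkE : ∀ v, v < 16 → k * Φ.e c v = Φ.e c v * k := fun v hv' => by
    rw [hkeq, mul_assoc, h v hv', ← mul_assoc, Φ.e_comm hc, mul_assoc]
  have hkC : k ∈ centralizer ({t} : Set G) := Φ.F_mem (hc.sub2_W6 wd)
  obtain ⟨w', hw', hk'⟩ := Φ.exists_dW hc hd hC hkC (Φ.e_two hc ▸ hkE 2 (by norm_num))
  have hid : c.mat2 wd = idM := by
    refine IsMat.unique Φ hc (mat2_lt _ _) (by decide) (Φ.isMat_sub2 hc wd hwd) fun v hv' => ?_
    rw [apM_idM hv']
    show k * _ * k⁻¹ = _
    rw [hkE v hv', mul_inv_cancel_right]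
  have hp : c.pev w' = (0, idM) := by
    have hp0 : Φ.Pair c k (0, idM) := ⟨by norm_num, wd, hwd, hid.symm, by simp [Φ.e_zero hc, hk]⟩
    have := Φ.pair_dW hc hd hw'
    rw [← hk'] at this
    exact Pair.unique Φ hc this hp0
  obtain ⟨j, hj⟩ : ∃ j, j < 192 ∧ dW.getD j [] = [] := ⟨0, by norm_num, rfl⟩
  obtain ⟨i, hi, rfl⟩ := List.getElem_of_mem hw'
  have hi' : i < 192 := by have := hd.facts.1; omega
  rw [← List.getD_eq_getElem _ [] hi] at hp hk'
  have hij := hd.pev_inj hi' hj.1 (by rw [hp, hj.2]; rfl)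
  rw [hij, hj.2, Φ.F_nil] at hk'
  rw [hF, hk', mul_one]
  exact ⟨_, hv, rfl⟩

theorem inBar_mul {X Y : Nat} (hX : c.inBar X = true) (hY : c.inBar Y = true) : c.inBar (mulM X Y) = true := by
  have h := hc.lbarT
  simp only [Cl.lbarOK, Bool.and_eq_true, List.all_eq_true] at h
  obtain ⟨e, he, heX⟩ : ∃ e ∈ c.lbar, e.1 = X := by
    simpa [Cl.inBar, List.any_eq_true] using hX
  obtain ⟨⟨⟨⟨hwd, hm⟩, -⟩, -⟩, -⟩ := h.1.2 e he
  rw [← heX, ← Nat.eq_of_beq_eq_true hm]
  clear heX hm he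
  generalize e.2 = wd at hwd ⊢
  induction wd with
  | nil =>
    obtain ⟨e', he', rfl⟩ : ∃ e' ∈ c.lbar, e'.1 = Y := by simpa [Cl.inBar, List.any_eq_true] using hY
    rw [mat2_nil]
    have hlt : e'.1 < 65536 := Nat.eq_of_beq_eq_true (h.1.2 e' he').1.1.1.2 ▸ mat2_lt _ _
    rw [show mulM idM e'.1 = e'.1 from code_ext (mulM_lt _ _) hlt fun v _ => by
      rw [apM_mulM, apM_idM (apM_lt _ _)]]
    exact hY
  | cons a wd ih =>
    simp only [Cl.inL, List.all_cons, Bool.and_eq_true, decide_eq_true_eq] at hwd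
    obtain ⟨e', he', hem⟩ : ∃ e' ∈ c.lbar, e'.1 = mulM (c.mat2 wd) Y := by
      simpa [Cl.inBar, List.any_eq_true] using ih (by simpa [Cl.inL] using hwd.2)
    obtain ⟨⟨-, hA⟩, hB⟩ := h.1.2 e' he'
    rw [mat2_cons]
    have hassoc : ∀ A : Nat, mulM (mulM A (c.mat2 wd)) Y = mulM A e'.1 := fun A =>
      code_ext (mulM_lt _ _) (mulM_lt _ _) fun v _ => by simp only [hem, apM_mulM]
    rw [hassoc]
    have ha := hwd.1
    interval_cases a
    · exact hA
    · exact hB

theorem bar_elem {X : Nat} (hX : c.inBar X = true) : X < 65536 ∧ ∃ wd, Cl.inL wd = true ∧ c.mat2 wd = X := by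
  have h := hc.lbarT
  simp only [Cl.lbarOK, Bool.and_eq_true, List.all_eq_true] at h
  obtain ⟨e, he, rfl⟩ : ∃ e ∈ c.lbar, e.1 = X := by simpa [Cl.inBar, List.any_eq_true] using hX
  obtain ⟨⟨⟨⟨hwd, hm⟩, -⟩, -⟩, -⟩ := h.1.2 e he
  exact ⟨Nat.eq_of_beq_eq_true hm ▸ mat2_lt _ _, e.2, hwd, Nat.eq_of_beq_eq_true hm⟩

/-- An element of the complement moving a vector to the second one, and one moving the second one there. -/
theorem exists_move {v : Nat} (hv : v < 16) (h2 : 2 ≤ v) :
    (∃ wd, Cl.inL wd = true ∧ apM (c.mat2 wd) v = 2) ∧ ∃ wd, Cl.inL wd = true ∧ apM (c.mat2 wd) 2 = v := by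
  have h := hc.lbarT
  simp only [Cl.lbarOK, Bool.and_eq_true, List.all_eq_true, List.mem_range, Bool.or_eq_true,
    decide_eq_true_eq, List.any_eq_true, Nat.beq_eq] at h
  obtain ⟨⟨e, he, hev⟩, ⟨e', he', hev'⟩⟩ := (h.2 v hv).resolve_left (by omega)
  exact ⟨⟨e.2, (h.1.2 e he).1.1.1.1, (h.1.2 e he).1.1.1.2 ▸ hev⟩,
    ⟨e'.2, (h.1.2 e' he').1.1.1.1, (h.1.2 e' he').1.1.1.2 ▸ hev'⟩⟩

/-- An element of the centralizer acts on the class by the matrix group of the complement. -/
theorem mat_stab (hC : Nat.card (centralizer ({t} : Set G)) = 40320) {g : G}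
    (hg : g ∈ centralizer ({t} : Set G)) {X : Nat} (hXlt : X < 65536) (hX : Φ.IsMat c g X) :
    c.inBar X = true := by
  have h1 : apM X 1 = 1 := by
    have h := hX 1 (by norm_num)
    rw [Φ.e_one hc, mem_centralizer_singleton_iff.1 hg, mul_inv_cancel_right] at h
    exact Φ.e_inj hc (apM_lt _ _) (by norm_num) (by rw [← h, Φ.e_one hc])
  set v := apM X 2 with hv
  have hvlt : v < 16 := apM_lt _ _
  have hv2 : 2 ≤ v := by
    by_contra hh
    have hinj : ∀ u, u < 16 → apM X 2 = apM X u → (2 : Nat) = u := fun u hu e =>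
      Φ.e_inj hc (by norm_num) hu (by
        have a := hX 2 (by norm_num)
        rw [e, ← hX u hu] at a
        simpa using a)
    have : v = 0 ∨ v = 1 := by omega
    rcases this with h | h
    · have := hinj 0 (by norm_num) (by rw [← hv, h, apM_zero])
      omega
    · have := hinj 1 (by norm_num) (by rw [← hv, h, h1])
      omega
  obtain ⟨⟨wd, hwd, hmv⟩, -⟩ := exists_move hc hd hvlt hv2
  set l := Φ.F (c.sub2 wd)
  have hl : Φ.IsMat c l (c.mat2 wd) := Φ.isMat_sub2 hc wd hwd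
  have hlg := IsMat.mul Φ hc hl hX
  have hs : l * g * Φ.s = Φ.s * (l * g) := by
    have h := hlg 2 (by norm_num)
    rw [apM_mulM, ← hv, hmv, Φ.e_two hc, mul_inv_eq_iff_eq_mul] at h
    exact h
  obtain ⟨w, hw, he⟩ := Φ.exists_dW hc hd hC (mul_mem (Φ.F_mem (hc.sub2_W6 wd)) hg) hs
  have hp := Φ.pair_dW hc hd hw
  rw [← he] at hp
  have hbar : c.inBar (mulM (c.mat2 wd) X) = true := by
    rw [IsMat.unique Φ hc (mulM_lt _ _) (Pair.lt Φ hc hp) hlg (Pair.isMat Φ hc hp)]
    exact (hd.facts.2.2.2 w hw).2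
  -- undo the complement element: it has finite order
  have hbarwd : c.inBar (c.mat2 wd) = true := by
    clear hp hbar he hw hs hlg hl hmv
    have h := hc.lbarT
    simp only [Cl.lbarOK, Bool.and_eq_true, List.all_eq_true] at h
    induction wd with
    | nil => exact h.1.1
    | cons a wd ih =>
      simp only [Cl.inL, List.all_cons, Bool.and_eq_true, decide_eq_true_eq] at hwd
      obtain ⟨e', he', hem⟩ : ∃ e' ∈ c.lbar, e'.1 = c.mat2 wd := by
        simpa [Cl.inBar, List.any_eq_true] using ih (by simpa [Cl.inL] using hwd.2)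
      obtain ⟨⟨-, hA⟩, hB⟩ := h.1.2 e' he'
      rw [mat2_cons, ← hem]
      have ha := hwd.1
      interval_cases a
      · exact hA
      · exact hB
  have hpow : ∀ n : Nat, ∀ Z, c.inBar Z = true → ∃ Y, c.inBar Y = true ∧ ∀ u, u < 16 →
      l ^ n * (l * g) * Φ.e c u * (l ^ n * (l * g))⁻¹ = Φ.e c (apM Y u) ∧ Y < 65536 := by
    intro n Z _
    induction n with
    | zero =>
      refine ⟨_, hbar, fun u hu => ⟨?_, mulM_lt _ _⟩⟩
      rw [pow_zero, one_mul]
      exact hlg u hu
    | succ n ih =>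
      obtain ⟨Y, hY, hYe⟩ := ih
      refine ⟨mulM (c.mat2 wd) Y, inBar_mul hc hd hbarwd hY, fun u hu => ⟨?_, mulM_lt _ _⟩⟩
      have := hl (apM Y u) (apM_lt _ _)
      rw [apM_mulM, ← this, ← (hYe u hu).1, pow_succ']
      group
  obtain ⟨Y, hY, hYe⟩ := hpow (orderOf l - 1) idM (by
    have h := hc.lbarT
    simp only [Cl.lbarOK, Bool.and_eq_true] at h
    exact h.1.1)
  have ho : l ^ (orderOf l - 1) * (l * g) = g := by
    rw [← mul_assoc, ← pow_succ, Nat.sub_add_cancel (orderOf_pos l), pow_orderOf_eq_one, one_mul]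
  rw [ho] at hYe
  rwa [IsMat.unique Φ hc hXlt (hYe 0 (by norm_num)).2 hX fun u hu => (hYe u hu).1]

end Phi

end CfsgLib.McLUniq
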