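import Cfsg.Agent.McLUniq.GTests

/-! The tests on the Sylow subgroup and on pairs of commuting involutions. -/

set_option autoImplicit false
set_option maxRecDepth 100000
set_option Elab.async false

namespace CfsgLib.McLUniq

theorem syl_ok : sylOK = true := by decide +kernel
theorem gamma_ok : gammaOK = true := by decide +kernel

end CfsgLib.McLUniq
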