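import Cfsg.Agent.McLUniq.Normal
import Cfsg.Agent.McLUniq.GChecksSyl
import Mathlib.GroupTheory.Sylow

/-!
# The central involution moves in both normalizers
-/

set_option autoImplicit false
set_option maxRecDepth 100000
set_option linter.unusedSectionVars false
set_option linter.style.haveILetI false

namespace CfsgLib.McLUniq

open Subgroup CfsgLib.Coset
open scoped Pointwise

theorem two_differ {v : Nat} (hv : v < 16) : ev L0 (two.eW 4) ≠ ev L0 (one.eW v) := fun e => by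
  have h := differ_ok
  simp only [differOK, List.all_eq_true, List.mem_range, List.any_eq_true, Bool.not_eq_true'] at h
  obtain ⟨p, hp, hne⟩ := h v hv
  have hp' : p < 275 := by
    simp only [List.mem_cons, List.not_mem_nil, or_false] at hp
    rcases hp with rfl | rfl | rfl | rfl | rfl <;> decide
  rw [appN_eq_of_ev e hp'] at hne
  simp at hne

theorem gamma_facts {u w : List Nat} (hu : u ∈ dW) (hw : w ∈ dW)
    (h1 : pmul (one.pev u) (one.pev u) = (0, idM)) (h2 : pmul (one.pev w) (one.pev w) = (0, idM))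
    (h3 : pmul (one.pev u) (one.pev w) = pmul (one.pev w) (one.pev u))
    (h4 : inFour (one.pev u) = false) (h5 : inFour (one.pev w) = false)
    (h6 : inFour (pmul (one.pev u) (one.pev w)) = false) :
    ((one.pev u).2 = idM ∧ (one.pev w).2 = idM) ∨ ((two.pev u).2 = idM ∧ (two.pev w).2 = idM) := by
  obtain ⟨i, hi, rfl⟩ := List.getElem_of_mem hu
  obtain ⟨j, hj, rfl⟩ := List.getElem_of_mem hw
  have hl := dOne.facts.1
  have hi' : i < 192 := hl ▸ hi
  have hj' : j < 192 := hl ▸ hj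
  rw [← List.getD_eq_getElem _ [] hi, ← dOne.getD_pev hi'] at h1 h3 h4 h6 ⊢
  rw [← List.getD_eq_getElem _ [] hj, ← dOne.getD_pev hj'] at h2 h3 h5 h6 ⊢
  rw [← dTwo.getD_pev hi', ← dTwo.getD_pev hj']
  have h := gamma_ok
  simp only [gammaOK, List.all_eq_true, List.mem_range, Bool.or_eq_true, Bool.and_eq_true,
    Bool.not_eq_true', Nat.beq_eq] at h
  have hpeq : ∀ p : Nat × Nat, peq p p = true := fun p => by simp [peq]
  rcases h i hi' with (ha | ha) | ha
  · rw [h1, hpeq] at ha; exact absurd ha (by simp)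
  · rw [h4] at ha; exact absurd ha (by simp)
  rcases ha j hj' with ((((hb | hb) | hb) | hb) | hb) | hb
  · rw [h2, hpeq] at hb; exact absurd hb (by simp)
  · rw [pcomm, h3, hpeq] at hb; exact absurd hb (by simp)
  · rw [h5] at hb; exact absurd hb (by simp)
  · rw [h6] at hb; exact absurd hb (by simp)
  · exact Or.inl hb
  · exact Or.inr hb

namespace Phi

variable {G : Type*} [Group G] [Finite G] {t : G} (Φ : Phi t)

/-- A pair with trivial matrix is a vector. -/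
theorem pair_eq_e {c : Cl} (hc : ClOK c) (hd : DTests c)
    (hC : Nat.card (centralizer ({t} : Set G)) = 40320) {g : G} {p : Nat × Nat} (h : Φ.Pair c g p)
    (h2 : p.2 = idM) : g = Φ.e c p.1 := by
  obtain ⟨-, wd, hwd, e, rfl⟩ := h
  have hm := Φ.isMat_sub2 hc wd hwd
  rw [← e, h2] at hm
  obtain ⟨u, hu, eu⟩ := Φ.cent_E hc hd hC fun v hv => by
    have := hm v hv
    rwa [apM_idM hv, mul_inv_eq_iff_eq_mul] at this
  have h0 : appN (c.eW u) c.pt = c.pt := by
    rw [← appN_eq_of_ev ((Φ.F_eq_iff (hc.sub2_W6 wd) (hc.eW_W6 u)).1 eu) hc.basis_facts.2.2.2.2.1]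
    exact hc.sub2_pt wd
  obtain rfl := hc.eW_free hu h0
  rw [eu, Φ.e_zero hc, mul_one]

/-- Equal pairs give equal elements. -/
theorem pair_elem_unique {c : Cl} (hc : ClOK c) (hd : DTests c)
    (hC : Nat.card (centralizer ({t} : Set G)) = 40320) {g h : G} {p : Nat × Nat} (hg : Φ.Pair c g p)
    (hh : Φ.Pair c h p) : g = h := by
  have hmg := Pair.isMat Φ hc hg
  have hmh := Pair.isMat Φ hc hh
  obtain ⟨-, wd, hwd, e, rfl⟩ := hg
  obtain ⟨-, wd', hwd', e', rfl⟩ := hh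
  have hm := Φ.isMat_sub2 hc wd hwd
  have hm' := Φ.isMat_sub2 hc wd' hwd'
  rw [← e] at hm
  rw [← e'] at hm'
  set a := Φ.F (c.sub2 wd) with ha
  set b := Φ.F (c.sub2 wd') with hb
  obtain ⟨u, hu, eu⟩ := Φ.cent_E hc hd hC (g := a⁻¹ * b) fun v hv => by
    rw [← mul_inv_eq_iff_eq_mul]
    calc a⁻¹ * b * Φ.e c v * (a⁻¹ * b)⁻¹ = a⁻¹ * (b * Φ.e c v * b⁻¹) * a := by group
      _ = a⁻¹ * (a * Φ.e c v * a⁻¹) * a := by rw [hm v hv, hm' v hv]
      _ = Φ.e c v := by group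
  have hW : W6 (invW (c.sub2 wd) ++ c.sub2 wd') := (hc.sub2_W6 wd).invW.append (hc.sub2_W6 wd')
  have h0 : appN (c.eW u) c.pt = c.pt := by
    have e2 : Φ.F (c.sub2 wd') = Φ.F (c.sub2 wd ++ c.eW u) := by
      rw [F_append]; change b = a * Φ.e c u; rw [← eu]; group
    have := appN_eq_of_ev ((Φ.F_eq_iff (hc.sub2_W6 wd') ((hc.sub2_W6 wd).append (hc.eW_W6 u))).1 e2)
      hc.basis_facts.2.2.2.2.1
    rw [hc.sub2_pt, appN, List.foldr_append] at this
    change c.pt = appN (c.sub2 wd) (appN (c.eW u) c.pt) at this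
    have hlt : ∀ q, q < 275 → ∀ w : List Nat, W6 w → appN w q < 275 := fun q hq w hw => by
      rw [← ev_apply w ⟨q, hq⟩]; exact Fin.isLt _
    have hp := hc.basis_facts.2.2.2.2.1
    have key : ∀ q, q < 275 → appN (c.sub2 wd) q = c.pt → q = c.pt := fun q hq hqe => by
      have h1 : ((ev L0 (c.sub2 wd)) ⟨q, hq⟩).val = ((ev L0 (c.sub2 wd)) ⟨c.pt, hp⟩).val := by
        rw [ev_apply, ev_apply, hqe, hc.sub2_pt]
      exact congrArg Fin.val ((ev L0 (c.sub2 wd)).injective (Fin.ext h1))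
    exact key _ (hlt _ hp _ (hc.eW_W6 u)) this.symm
  obtain rfl := hc.eW_free hu h0
  rw [Φ.e_zero hc, inv_mul_eq_one] at eu
  rw [eu]

theorem s_swap {g : G} (hg : g * t * g⁻¹ = Φ.s) (hg' : g * Φ.s * g⁻¹ = t) :
    g⁻¹ * t * g = Φ.s ∧ g⁻¹ * Φ.s * g = t := by
  constructor
  · conv_lhs => rw [← hg']
    group
  · conv_lhs => rw [← hg]
    group

/-- An element exchanging the two involutions exists when the central one is not isolated. -/
theorem exists_swap {g : G} (hc : Commute t (g * t * g⁻¹)) (hne : g * t * g⁻¹ ≠ t) :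
    ∃ γ : G, γ * t * γ⁻¹ = Φ.s ∧ γ * Φ.s * γ⁻¹ = t := by
  have hinv : ∀ x : G, x * x = 1 → ∀ k : G, k * x * k⁻¹ * (k * x * k⁻¹) = 1 := fun x hx k => by
    rw [show k * x * k⁻¹ * (k * x * k⁻¹) = k * (x * x) * k⁻¹ by group, hx, mul_one, mul_inv_cancel]
  obtain ⟨h, hh, eh⟩ := Φ.invol_conj (g := g * t * g⁻¹) (mem_centralizer_singleton_iff.2 hc.eq.symm)
    (hinv t Φ.D.z_sq g) (fun e => Φ.D.z_ne (conj_eq_one_iff.1 e)) hne
  set m := h * g
  have hm : m * t * m⁻¹ = Φ.s := by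
    show h * g * t * (h * g)⁻¹ = _
    rw [← eh]; group
  obtain ⟨h', hh', eh'⟩ := Φ.invol_conj (g := m⁻¹ * t * m)
    (mem_centralizer_singleton_iff.2 (by
      have e := Φ.s_comm
      rw [← hm] at e
      calc m⁻¹ * t * m * t = m⁻¹ * (t * (m * t * m⁻¹)) * m := by group
        _ = m⁻¹ * (m * t * m⁻¹ * t) * m := by rw [e]
        _ = t * (m⁻¹ * t * m) := by group))
    (by simpa using hinv t Φ.D.z_sq m⁻¹)
    (fun e => Φ.D.z_ne (conj_eq_one_iff.1 (show m⁻¹ * t * (m⁻¹)⁻¹ = 1 by rw [inv_inv]; exact e)))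
    (fun e => Φ.s_ne_t (by rw [← hm]; conv_rhs => rw [show t = m * (m⁻¹ * t * m) * m⁻¹ by group, e]))
  refine ⟨h' * m⁻¹, ?_, ?_⟩
  · rw [← eh']; group
  · calc h' * m⁻¹ * Φ.s * (h' * m⁻¹)⁻¹ = h' * (m⁻¹ * (m * t * m⁻¹) * m) * h'⁻¹ := by rw [hm]; group
      _ = h' * t * h'⁻¹ := by group
      _ = t := by rw [mem_centralizer_singleton_iff.1 hh', mul_inv_cancel_right]

/-- The image of a class under an exchanging element is one of the two classes. -/
theorem image_class {c : Cl} (hc : ClOK c) (hC : Nat.card (centralizer ({t} : Set G)) = 40320) {γ : G}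
    (h1 : γ * t * γ⁻¹ = Φ.s) (h2 : γ * Φ.s * γ⁻¹ = t) :
    (∀ v, v < 16 → Φ.InE one (γ * Φ.e c v * γ⁻¹)) ∨ ∀ v, v < 16 → Φ.InE two (γ * Φ.e c v * γ⁻¹) := by
  set f : Nat → G := fun v => γ * Φ.e c v * γ⁻¹
  have fadd : ∀ v u, f (v ^^^ u) = f v * f u := fun v u => by
    simp only [f, Φ.e_add hc]; group
  have finj : ∀ v u, v < 16 → u < 16 → f v = f u → v = u := fun v u hv hu e =>
    Φ.e_inj hc hv hu (mul_left_cancel (mul_right_cancel e))
  have f1 : f 1 = Φ.s := by simp only [f, Φ.e_one hc, h1]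
  have f2 : f 2 = t := by simp only [f, Φ.e_two hc, h2]
  have fC : ∀ v, f v ∈ centralizer ({t} : Set G) ∧ f v * Φ.s = Φ.s * f v := fun v => by
    refine ⟨mem_centralizer_singleton_iff.2 ?_, ?_⟩
    · rw [← f2, ← fadd, ← fadd, Nat.xor_comm]
    · rw [← f1, ← fadd, ← fadd, Nat.xor_comm]
  obtain ⟨u, hu, eu⟩ := Φ.exists_dW oneOK dOne hC (fC 4).1 (fC 4).2
  obtain ⟨w, hw, ew⟩ := Φ.exists_dW oneOK dOne hC (fC 8).1 (fC 8).2
  have pu := Φ.pair_dW oneOK dOne hu
  have pw := Φ.pair_dW oneOK dOne hw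
  rw [← eu] at pu
  rw [← ew] at pw
  have four : ∀ v p, v < 16 → Φ.Pair one (f v) p → (∀ k, k < 4 → v ≠ k) → inFour p = false := by
    intro v p hv hp hne
    by_contra hh
    rw [Bool.not_eq_false, inFour, Bool.and_eq_true, decide_eq_true_eq] at hh
    obtain ⟨hh1, hh2⟩ := hh
    have e := Φ.pair_eq_e oneOK dOne hC hp (Nat.eq_of_beq_eq_true hh1)
    have h3 : Φ.e one 3 = t * Φ.s := by
      rw [show (3 : Nat) = 1 ^^^ 2 from rfl, Φ.e_add oneOK, Φ.e_one oneOK, Φ.e_two oneOK]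
    have f3 : f 3 = t * Φ.s := by
      rw [show (3 : Nat) = 2 ^^^ 1 from rfl, fadd, f1, f2]
    have f0 : f 0 = 1 := by simp [f, Φ.e_zero hc]
    interval_cases hp1 : p.1
    · exact hne 0 (by norm_num) (finj v 0 hv (by norm_num) (by rw [e, f0, Φ.e_zero oneOK]))
    · exact hne 2 (by norm_num) (finj v 2 hv (by norm_num) (by rw [e, f2, Φ.e_one oneOK]))
    · exact hne 1 (by norm_num) (finj v 1 hv (by norm_num) (by rw [e, f1, Φ.e_two oneOK]))
    · exact hne 3 (by norm_num) (finj v 3 hv (by norm_num) (by rw [e, f3, h3]))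
  have hsq : ∀ v p, Φ.Pair one (f v) p → pmul p p = (0, idM) := fun v p hp => by
    have := Pair.mul Φ oneOK hp hp
    rw [← fadd, Nat.xor_self, show f 0 = 1 by simp [f, Φ.e_zero hc]] at this
    exact Pair.unique Φ oneOK this (Φ.pair_one oneOK)
  have h12 := Pair.mul Φ oneOK pu pw
  have h21 := Pair.mul Φ oneOK pw pu
  rw [← fadd] at h12 h21
  rw [Nat.xor_comm] at h21
  have hcases := gamma_facts hu hw (hsq _ _ pu) (hsq _ _ pw) (Pair.unique Φ oneOK h12 h21)
    (four 4 _ (by norm_num) pu (by intros; omega)) (four 8 _ (by norm_num) pw (by intros; omega))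
    (four (4 ^^^ 8) _ (by decide) h12 (by intro k hk; have : (4 : Nat) ^^^ 8 = 12 := (by decide); omega))
  have span : ∀ c' : Cl, ClOK c' → Φ.InE c' (f 4) → Φ.InE c' (f 8) → ∀ v, v < 16 → Φ.InE c' (f v) := by
    intro c' hc' i4 i8 v hv
    obtain ⟨a, ha, ea⟩ := i4
    obtain ⟨b, hb, eb⟩ := i8
    have i0 : Φ.InE c' (f 0) := ⟨0, by norm_num, by simp [f, Φ.e_zero hc, Φ.e_zero hc']⟩
    have i1 : Φ.InE c' (f 1) := ⟨2, by norm_num, by rw [f1, Φ.e_two hc']⟩
    have i2 : Φ.InE c' (f 2) := ⟨1, by norm_num, by rw [f2, Φ.e_one hc']⟩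
    have imul : ∀ i j, Φ.InE c' (f i) → Φ.InE c' (f j) → Φ.InE c' (f (i ^^^ j)) := by
      rintro i j ⟨x, hx, ex⟩ ⟨y, hy, ey⟩
      exact ⟨x ^^^ y, Nat.xor_lt_two_pow (n := 4) hx hy, by rw [fadd, ex, ey, Φ.e_add hc']⟩
    have ip : ∀ i n, n = 0 ∨ n = i → Φ.InE c' (f i) → Φ.InE c' (f n) := by
      rintro i n (rfl | rfl) hi
      · exact i0
      · exact hi
    rw [vec_pick v hv]
    refine imul _ _ (imul _ _ (imul _ _ (ip 1 _ ?_ i1) (ip 2 _ ?_ i2)) (ip 4 _ ?_ ⟨a, ha, ea⟩))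
      (ip 8 _ ?_ ⟨b, hb, eb⟩)
    all_goals (rw [pickB_eq]; split <;> simp)
  rcases hcases with ⟨hu1, hw1⟩ | ⟨hu2, hw2⟩
  · exact Or.inl (span one oneOK ⟨_, pu.1, Φ.pair_eq_e oneOK dOne hC pu hu1⟩
      ⟨_, pw.1, Φ.pair_eq_e oneOK dOne hC pw hw1⟩)
  · have qu := Φ.pair_dW twoOK dTwo hu
    have qw := Φ.pair_dW twoOK dTwo hw
    rw [← eu] at qu
    rw [← ew] at qw
    exact Or.inr (span two twoOK ⟨_, qu.1, Φ.pair_eq_e twoOK dTwo hC qu hu2⟩
      ⟨_, qw.1, Φ.pair_eq_e twoOK dTwo hC qw hw2⟩)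

/-- The word of a Sylow element. -/
def sylWord (w : List Nat) : List Nat := w.flatMap fun i => sylGen.getD i []

theorem syl_facts : sylW.length = 128 ∧ (∀ g ∈ sylGen, inK g = true) ∧
    (∀ w ∈ sylW, ∀ i ∈ w, i < sylGen.length) ∧ (∀ i ∈ sSyl, i < sylGen.length) ∧
    (∀ i < 128, ∀ j < i, peq (sylP.getD i (0, 0)) (sylP.getD j (0, 0)) = false) ∧
    (∃ w ∈ sylW, one.pev (sylWord w) = (0, idM)) ∧ (∃ w ∈ sylW, one.pev (sylWord w) = (1, idM)) ∧
    (∀ w ∈ sylW, ∀ g ∈ sylGen, ∃ w' ∈ sylW, pmul (one.pev (sylWord w)) (one.pev g) = one.pev (sylWord w')) ∧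
    one.pev (sylWord sSyl) = (2, idM) ∧
    ∀ w ∈ dW, (∀ g ∈ sylGen, pcomm (one.pev w) (one.pev g) = true) →
      (one.pev w).2 = idM ∧ (one.pev w).1 < 2 := by
  have h := syl_ok
  simp only [sylOK, dP, sylP, Bool.and_eq_true, List.all_eq_true, List.any_eq_true, List.mem_map,
    forall_exists_index, and_imp, forall_apply_eq_imp_iff₂, exists_exists_and_eq_and, Nat.beq_eq,
    decide_eq_true_eq, List.mem_range, Bool.or_eq_true, Bool.not_eq_true'] at h
  obtain ⟨⟨⟨⟨⟨⟨⟨⟨⟨h1, h2⟩, h3⟩, h4⟩, h5⟩, ⟨w0, hw0, e0⟩⟩, ⟨w1, hw1, e1⟩⟩, h8⟩, h9⟩, h10⟩ := h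
  refine ⟨h1, h2, h3, h4, h5, ⟨w0, hw0, (eq_of_peq e0).symm⟩, ⟨w1, hw1, (eq_of_peq e1).symm⟩,
    fun w hw g hg => ?_, eq_of_peq h9, fun w hw hcm => ?_⟩
  · obtain ⟨w', hw', e⟩ := h8 w hw g hg
    exact ⟨w', hw', eq_of_peq e⟩
  · refine (h10 w hw).resolve_left fun hall => ?_
    rw [List.all_eq_false] at hall
    obtain ⟨g, hg, hne⟩ := hall
    exact hne (hcm g hg)

/-- No element maps the first class to the second. -/
theorem no_class_swap (hC : Nat.card (centralizer ({t} : Set G)) = 40320) {γ : G}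
    (hγ : ∀ v, v < 16 → Φ.InE two (γ * Φ.e one v * γ⁻¹)) : False := by
  classical
  haveI : Fact (Nat.Prime 2) := ⟨Nat.prime_two⟩
  obtain ⟨hlen, hgK, hwi, hsi, hdist, ⟨w0, hw0, e0⟩, ⟨w1, hw1, e1⟩, hclos, hsS, hcent⟩ := syl_facts
  have hKw : ∀ w : List Nat, (∀ i ∈ w, i < sylGen.length) → inK (sylWord w) = true := fun w hw =>
    List.all_eq_true.2 fun l hl => by
      obtain ⟨i, hi, hl⟩ := List.mem_flatMap.1 hl
      rw [List.getD_eq_getElem _ _ (hw i hi)] at hl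
      exact List.all_eq_true.1 (hgK _ (List.getElem_mem _)) l hl
  have hpair : ∀ c : Cl, ClOK c → ∀ w, inK w = true → Φ.Pair c (Φ.F w) (c.pev w) := fun c hc w hw =>
    Φ.pair_word hc w (inK_sub hw _)
  set gens : Set G := {x | ∃ g ∈ sylGen, x = Φ.F g}
  set S := Subgroup.closure gens
  have hwS : ∀ w, (∀ i ∈ w, i < sylGen.length) → Φ.F (sylWord w) ∈ S := fun w hw => by
    rw [sylWord, Φ.F_flatMap]
    refine list_prod_mem fun x hx => ?_
    obtain ⟨i, hi, rfl⟩ := List.mem_map.1 hx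
    refine Subgroup.subset_closure ⟨_, ?_, rfl⟩
    rw [List.getD_eq_getElem _ _ (hw i hi)]
    exact List.getElem_mem _
  have hw0e : Φ.F (sylWord w0) = 1 := Φ.pair_elem_unique oneOK dOne hC
    (e0 ▸ hpair one oneOK _ (hKw _ (hwi _ hw0))) (Φ.pair_one oneOK)
  have hSset : ∀ x ∈ S, ∃ w ∈ sylW, x = Φ.F (sylWord w) := by
    intro x hx
    induction hx using Subgroup.closure_induction_right with
    | one => exact ⟨w0, hw0, hw0e.symm⟩
    | mul_right x _ y hy ih =>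
      obtain ⟨w, hw, rfl⟩ := ih
      obtain ⟨g, hg, rfl⟩ := hy
      obtain ⟨w', hw', e⟩ := hclos w hw g hg
      refine ⟨w', hw', Φ.pair_elem_unique oneOK dOne hC ?_ (hpair one oneOK _ (hKw _ (hwi _ hw')))⟩
      rw [← e]
      exact Pair.mul Φ oneOK (hpair one oneOK _ (hKw _ (hwi _ hw))) (hpair one oneOK _ (hgK _ hg))
    | mul_inv_cancel x _ y hy ih =>
      obtain ⟨g, hg, rfl⟩ := hy
      have hpow : ∀ n : Nat, ∃ w ∈ sylW, x * Φ.F g ^ n = Φ.F (sylWord w) := by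
        intro n
        induction n with
        | zero => simpa using ih
        | succ n ihn =>
          obtain ⟨w, hw, e⟩ := ihn
          obtain ⟨w', hw', e'⟩ := hclos w hw g hg
          refine ⟨w', hw', ?_⟩
          rw [pow_succ, ← mul_assoc, e]
          refine Φ.pair_elem_unique oneOK dOne hC ?_ (hpair one oneOK _ (hKw _ (hwi _ hw')))
          rw [← e']
          exact Pair.mul Φ oneOK (hpair one oneOK _ (hKw _ (hwi _ hw))) (hpair one oneOK _ (hgK _ hg))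
      obtain ⟨w, hw, e⟩ := hpow (orderOf (Φ.F g) - 1)
      refine ⟨w, hw, ?_⟩
      rw [← e]
      congr 1
      refine inv_eq_of_mul_eq_one_left ?_
      rw [← pow_succ, Nat.sub_add_cancel (orderOf_pos _), pow_orderOf_eq_one]
  let φ : Fin 128 → S := fun i => ⟨Φ.F (sylWord (sylW.getD i.val [])), hwS _ (hwi _ (by
    rw [List.getD_eq_getElem _ _ (show i.val < sylW.length by omega)]; exact List.getElem_mem _))⟩
  have hφ : Function.Bijective φ := by
    refine ⟨fun i j e => ?_, fun x => ?_⟩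
    · have e1 : Φ.F (sylWord (sylW.getD i.val [])) = Φ.F (sylWord (sylW.getD j.val [])) := congrArg Subtype.val e
      have hm : ∀ i : Fin 128, inK (sylWord (sylW.getD i.val [])) = true := fun i => hKw _ (hwi _ (by
        rw [List.getD_eq_getElem _ _ (show i.val < sylW.length by omega)]; exact List.getElem_mem _))
      have hpi := hpair one oneOK _ (hm i)
      rw [e1] at hpi
      have heq := Pair.unique Φ oneOK hpi (hpair one oneOK _ (hm j))
      have hg : ∀ i : Fin 128, sylP.getD i.val (0, 0) = one.pev (sylWord (sylW.getD i.val [])) := fun i => by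
        simp [sylP, sylWord, List.getD_eq_getElem?_getD,
          List.getElem?_eq_getElem (show i.val < sylW.length by omega)]
      rw [← hg, ← hg] at heq
      rcases lt_trichotomy i.val j.val with h | h | h
      · have := hdist j.val j.2 i.val h
        rw [heq] at this; simp [peq] at this
      · exact Fin.ext h
      · have := hdist i.val i.2 j.val h
        rw [heq] at this; simp [peq] at this
    · obtain ⟨w, hw, e⟩ := hSset x.1 x.2
      obtain ⟨i, hi, rfl⟩ := List.getElem_of_mem hw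
      refine ⟨⟨i, hlen ▸ hi⟩, Subtype.ext ?_⟩
      rw [e]
      show Φ.F (sylWord (sylW.getD i [])) = _
      rw [List.getD_eq_getElem _ _ hi]
  have hScard : Nat.card S = 128 := by rw [← Nat.card_congr (Equiv.ofBijective φ hφ), Nat.card_fin]
  have hSC : S ≤ centralizer ({t} : Set G) := (Subgroup.closure_le _).2 fun x hx => by
    obtain ⟨g, hg, rfl⟩ := hx
    exact Φ.F_mem (W6.of_inK (hgK g hg))
  have htS : t ∈ S := by
    have := Φ.pair_eq_e oneOK dOne hC (hpair one oneOK _ (hKw _ (hwi _ hw1))) (by rw [e1])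
    rw [e1, Φ.e_one oneOK] at this
    exact this ▸ hwS _ (hwi _ hw1)
  have hsMem : Φ.s ∈ S := by
    have := Φ.pair_eq_e oneOK dOne hC (hpair one oneOK _ (hKw _ hsi)) (by rw [hsS])
    rw [hsS, Φ.e_two oneOK] at this
    exact this ▸ hwS _ hsi
  have hcentS : ∀ g : G, (∀ x ∈ S, g * x = x * g) → g = 1 ∨ g = t := by
    intro g hg
    obtain ⟨w, hw, rfl⟩ := Φ.exists_dW oneOK dOne hC
      (mem_centralizer_singleton_iff.2 (hg t htS)) (hg _ hsMem)
    have hp := Φ.pair_dW oneOK dOne hw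
    obtain ⟨h2, h1⟩ := hcent w hw fun g' hg' => by
      have hq := hpair one oneOK g' (hgK g' hg')
      have e := hg _ (Subgroup.subset_closure ⟨g', hg', rfl⟩)
      have a := Pair.mul Φ oneOK hp hq
      rw [e] at a
      rw [pcomm, Pair.unique Φ oneOK a (Pair.mul Φ oneOK hq hp)]
      simp [peq]
    rw [Φ.pair_eq_e oneOK dOne hC hp h2]
    have h01 : (one.pev w).1 = 0 ∨ (one.pev w).1 = 1 := by omega
    rcases h01 with h | h <;> rw [h]
    · exact Or.inl (Φ.e_zero oneOK)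
    · exact Or.inr (Φ.e_one oneOK)
  have hSp : IsPGroup 2 S := IsPGroup.of_card (n := 7) (by rw [hScard]; norm_num)
  obtain ⟨P, hP⟩ := hSp.exists_le_sylow
  have hPeq : (P : Subgroup G) = S := by
    haveI : Nontrivial ↥(P : Subgroup G) := ⟨⟨⟨t, hP htS⟩, 1, fun e => Φ.D.z_ne (congrArg Subtype.val e)⟩⟩
    haveI := P.isPGroup'.center_nontrivial
    have hcp : IsPGroup 2 (Subgroup.center ↥(P : Subgroup G)) := P.isPGroup'.to_subgroup _
    obtain ⟨z, hz⟩ := exists_ne (1 : Subgroup.center ↥(P : Subgroup G))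
    have hzS : ∀ x ∈ S, ((z : ↥(P : Subgroup G)) : G) * x = x * ((z : ↥(P : Subgroup G)) : G) := fun x hx =>
      (congrArg Subtype.val (Subgroup.mem_center_iff.1 z.2 ⟨x, hP hx⟩)).symm
    have hzt : ((z : ↥(P : Subgroup G)) : G) = t := (hcentS _ hzS).resolve_left fun e =>
      hz (Subtype.ext (Subtype.ext e))
    have hPC : (P : Subgroup G) ≤ centralizer ({t} : Set G) := fun x hx =>
      mem_centralizer_singleton_iff.2 (by
        have := congrArg Subtype.val (Subgroup.mem_center_iff.1 z.2 ⟨x, hx⟩)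
        simpa [hzt] using this)
    refine (Subgroup.eq_of_le_of_card_ge hP ?_).symm
    obtain ⟨n, hn⟩ := IsPGroup.iff_card.1 P.isPGroup'
    have hdvd : 2 ^ n ∣ 40320 := by rw [← hn, ← hC]; exact Subgroup.card_dvd_of_le hPC
    rw [hn, hScard]
    have : n ≤ 7 := by
      by_contra hh
      have h8 : 2 ^ 8 ∣ 40320 := (pow_dvd_pow 2 (by omega)).trans hdvd
      norm_num at h8
    calc 2 ^ n ≤ 2 ^ 7 := Nat.pow_le_pow_right (by norm_num) this
      _ = 128 := by norm_num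
  set N2 := Φ.Nrm (c := two)
  have hS1 : S ≤ Φ.Nrm (c := one) := (Subgroup.closure_le _).2 fun x hx => by
    obtain ⟨g, hg, rfl⟩ := hx
    exact Φ.pair_nrm oneOK (hpair one oneOK g (hgK g hg))
  have hS2 : S ≤ N2 := (Subgroup.closure_le _).2 fun x hx => by
    obtain ⟨g, hg, rfl⟩ := hx
    exact Φ.pair_nrm twoOK (hpair two twoOK g (hgK g hg))
  have hpre : ∀ u, u < 16 → ∃ v, v < 16 ∧ γ * Φ.e one v * γ⁻¹ = Φ.e two u := by
    choose f hf he using hγ
    let F : Fin 16 → Fin 16 := fun v => ⟨f v.val v.2, hf _ v.2⟩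
    have hF : Function.Injective F := fun a b e => by
      have e' : f a.val a.2 = f b.val b.2 := congrArg Fin.val e
      have : γ * Φ.e one a.val * γ⁻¹ = γ * Φ.e one b.val * γ⁻¹ := by rw [he _ a.2, he _ b.2, e']
      exact Fin.ext (Φ.e_inj oneOK a.2 b.2 (mul_left_cancel (mul_right_cancel this)))
    intro u hu
    obtain ⟨v, hv⟩ := (Finite.injective_iff_surjective.1 hF) ⟨u, hu⟩
    exact ⟨v.val, v.2, (he _ v.2).trans (congrArg (Φ.e two) (congrArg Fin.val hv))⟩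
  have hle : ((MulAut.conj γ • P : Sylow 2 G) : Subgroup G) ≤ N2 := by
    rintro _ ⟨x, hx, rfl⟩
    rw [hPeq] at hx
    refine Φ.mem_nrm_of_conj twoOK fun u hu => ?_
    obtain ⟨v, hv, ev'⟩ := hpre u hu
    obtain ⟨v', hv', ev''⟩ := (hS1 hx).1 v hv
    obtain ⟨u', hu', eu'⟩ := hγ v' hv'
    refine ⟨u', hu', ?_⟩
    rw [← eu', ← ev'', ← ev']
    show γ * x * γ⁻¹ * (γ * Φ.e one v * γ⁻¹) * (γ * x * γ⁻¹)⁻¹ = _
    group
  have hle' : (P : Subgroup G) ≤ N2 := hPeq.symm ▸ hS2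
  obtain ⟨n, hn⟩ := MulAction.exists_smul_eq N2 ((MulAut.conj γ • P : Sylow 2 G).subtype hle) (P.subtype hle')
  set m := (n : G) * γ with hmdef
  have hmS : ∀ x ∈ S, m * x * m⁻¹ ∈ S := by
    intro x hx
    rw [← hPeq] at hx ⊢
    have hy : γ * x * γ⁻¹ ∈ ((MulAut.conj γ • P : Sylow 2 G) : Subgroup G) := ⟨x, hx, rfl⟩
    have h2 : (⟨(n : G) * (γ * x * γ⁻¹) * (n : G)⁻¹, mul_mem (mul_mem n.2 (hle hy)) (inv_mem n.2)⟩ : N2) ∈
        ((P.subtype hle' : Sylow 2 N2) : Subgroup N2) := by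
      rw [← hn]
      exact ⟨⟨γ * x * γ⁻¹, hle hy⟩, Subgroup.mem_subgroupOf.2 hy, Subtype.ext rfl⟩
    rw [show m * x * m⁻¹ = (n : G) * (γ * x * γ⁻¹) * (n : G)⁻¹ by rw [hmdef]; group]
    exact Subgroup.mem_subgroupOf.1 h2
  have hmS' : ∀ x ∈ S, m⁻¹ * x * m ∈ S := by
    intro x hx
    let ψ : S → S := fun y => ⟨m * y.1 * m⁻¹, hmS _ y.2⟩
    have hψ : Function.Injective ψ := fun a b e =>
      Subtype.ext (mul_left_cancel (mul_right_cancel (congrArg Subtype.val e)))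
    obtain ⟨y, hy⟩ := (Finite.injective_iff_surjective.1 hψ) ⟨x, hx⟩
    have e : m * y.1 * m⁻¹ = x := congrArg Subtype.val hy
    rw [← e, show m⁻¹ * (m * y.1 * m⁻¹) * m = y.1 by group]
    exact y.2
  have hmt : m * t * m⁻¹ = t := by
    refine (hcentS _ fun x hx => ?_).resolve_left fun e => Φ.D.z_ne (conj_eq_one_iff.1 e)
    have h := mem_centralizer_singleton_iff.1 (hSC (hmS' x hx))
    calc m * t * m⁻¹ * x = m * (t * (m⁻¹ * x * m)) * m⁻¹ := by group
      _ = x * (m * t * m⁻¹) := by rw [← h]; group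
  have hm12 : ∀ v, v < 16 → Φ.InE two (m * Φ.e one v * m⁻¹) := fun v hv => by
    obtain ⟨u, hu, e⟩ := hγ v hv
    obtain ⟨u', hu', e'⟩ := n.2.1 u hu
    exact ⟨u', hu', by rw [← e', ← e, hmdef]; group⟩
  obtain ⟨v, hv, ev1⟩ := hm12 2 (by norm_num)
  rw [Φ.e_two oneOK] at ev1
  have hv2 : 2 ≤ v := by
    by_contra hh
    have : v = 0 ∨ v = 1 := by omega
    rcases this with rfl | rfl
    · rw [Φ.e_zero twoOK, conj_eq_one_iff] at ev1
      exact Φ.s_ne_one ev1
    · rw [Φ.e_one twoOK] at ev1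
      nth_rewrite 2 [← hmt] at ev1
      exact Φ.s_ne_t (mul_left_cancel (mul_right_cancel ev1))
  obtain ⟨⟨wd, hwd, hmv⟩, -⟩ := exists_move twoOK dTwo hv hv2
  have hl := Φ.isMat_sub2 twoOK wd hwd
  set h := Φ.F (two.sub2 wd) * m with hhdef
  have hhC : h ∈ centralizer ({t} : Set G) := mul_mem (Φ.F_mem (twoOK.sub2_W6 wd))
    (mem_centralizer_singleton_iff.2 (mul_inv_eq_iff_eq_mul.1 hmt))
  have hhs : h * Φ.s = Φ.s * h := by
    rw [← mul_inv_eq_iff_eq_mul, hhdef]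
    calc Φ.F (two.sub2 wd) * m * Φ.s * (Φ.F (two.sub2 wd) * m)⁻¹
        = Φ.F (two.sub2 wd) * (m * Φ.s * m⁻¹) * (Φ.F (two.sub2 wd))⁻¹ := by group
      _ = Φ.s := by rw [ev1, hl v hv, hmv, Φ.e_two twoOK]
  obtain ⟨w, hw, hwe⟩ := Φ.exists_dW oneOK dOne hC hhC hhs
  have hh1 := Pair.isMat Φ oneOK (Φ.pair_dW oneOK dOne hw)
  rw [← hwe] at hh1
  choose f hf he using hm12
  let F : Fin 16 → Fin 16 := fun a => ⟨apM (two.mat2 wd) (f a.val a.2), apM_lt _ _⟩
  have hFe : ∀ a : Fin 16, h * Φ.e one a.val * h⁻¹ = Φ.e two (F a).val := fun a => by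
    show _ = Φ.e two (apM (two.mat2 wd) (f a.val a.2))
    rw [← hl _ (hf _ a.2), ← he _ a.2, hhdef]; group
  have hF : Function.Injective F := fun a b e => by
    have : h * Φ.e one a.val * h⁻¹ = h * Φ.e one b.val * h⁻¹ := by rw [hFe, hFe, e]
    exact Fin.ext (Φ.e_inj oneOK a.2 b.2 (mul_left_cancel (mul_right_cancel this)))
  obtain ⟨a, ha⟩ := (Finite.injective_iff_surjective.1 hF) ⟨4, by norm_num⟩
  have e4 := hFe a
  rw [ha, hh1 _ a.2] at e4
  exact two_differ (apM_lt _ _) ((Φ.F_eq_iff (twoOK.eW_W6 4) (oneOK.eW_W6 _)).1 e4.symm)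

/-- The central involution is moved to the second one in both normalizers. -/
theorem exists_moves (hC : Nat.card (centralizer ({t} : Set G)) = 40320) {g : G}
    (hc : Commute t (g * t * g⁻¹)) (hne : g * t * g⁻¹ ≠ t) :
    (∃ g1 ∈ Φ.Nrm (c := one), g1 * t * g1⁻¹ = Φ.s) ∧ ∃ g2 ∈ Φ.Nrm (c := two), g2 * t * g2⁻¹ = Φ.s := by
  obtain ⟨γ, h1, h2⟩ := Φ.exists_swap hc hne
  refine ⟨?_, ?_⟩
  · rcases Φ.image_class oneOK hC h1 h2 with h | h
    · exact ⟨γ, Φ.mem_nrm_of_conj oneOK h, h1⟩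
    · exact (Φ.no_class_swap hC h).elim
  · rcases Φ.image_class twoOK hC h1 h2 with h | h
    · refine (Φ.no_class_swap hC (γ := γ⁻¹) fun v hv => ?_).elim
      rw [inv_inv]
      -- the inverse maps the first class to the second
      choose f hf he using h
      let F : Fin 16 → Fin 16 := fun a => ⟨f a.val a.2, hf _ a.2⟩
      have hF : Function.Injective F := fun a b e => by
        have e' : f a.val a.2 = f b.val b.2 := congrArg Fin.val e
        have : γ * Φ.e two a.val * γ⁻¹ = γ * Φ.e two b.val * γ⁻¹ := by rw [he _ a.2, he _ b.2, e']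
        exact Fin.ext (Φ.e_inj twoOK a.2 b.2 (mul_left_cancel (mul_right_cancel this)))
      obtain ⟨u, hu⟩ := (Finite.injective_iff_surjective.1 hF) ⟨v, hv⟩
      have e' : f u.val u.2 = v := congrArg Fin.val hu
      refine ⟨u.val, u.2, ?_⟩
      rw [← e', ← he _ u.2]
      group
    · exact ⟨γ, Φ.mem_nrm_of_conj twoOK h, h1⟩

end Phi

end CfsgLib.McLUniq
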