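import Cfsg.Agent.McLUniq.GTests

/-! The tests on the involution centralizer. -/

set_option autoImplicit false
set_option maxRecDepth 100000
set_option Elab.async false

namespace CfsgLib.McLUniq

theorem cover_ok : coverOK = true := by decide +kernel
theorem coverGen_ok : coverGenOK = true := by decide +kernel
theorem orb_ok : orbOK = true := by decide +kernel
theorem differ_ok : differOK = true := by decide +kernel

end CfsgLib.McLUniq
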