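import Cfsg.Agent.McLUniq.Letter
import Cfsg.Agent.McLUniq.Fusion

/-!
# Seven elements satisfying all relators
-/

set_option autoImplicit false
set_option maxRecDepth 100000
set_option linter.unusedSectionVars false

namespace CfsgLib.McLUniq

open Subgroup CfsgLib.Coset

theorem dCent_facts {w : List Nat} (hw : w ∈ dW)
    (h : ∀ g ∈ dImg, pcomm (one.pev w) (one.pev g) = true) :
    (one.pev w).2 = idM ∧ (one.pev w).1 < 4 := by
  have hh := dCent_ok
  simp only [dCentOK, dP, List.all_eq_true, List.mem_map, forall_exists_index, and_imp,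
    forall_apply_eq_imp_iff₂, Bool.or_eq_true, Bool.not_eq_true', Bool.and_eq_true, Nat.beq_eq,
    decide_eq_true_eq, List.all_eq_false] at hh
  refine (hh w hw).resolve_left ?_
  rintro ⟨g, hg, hne⟩
  exact hne (h g hg)

namespace Phi

variable {G : Type*} [Group G] [Finite G] {t : G} (Φ : Phi t)

theorem ev_relsH {w : G} {r : List Nat} (hr : r ∈ rels) (h6 : ∀ l ∈ r, l < 6) :
    ev (Φ.LG ++ [w]) r = 1 := by
  rw [Φ.ev_append_F h6, ← Φ.F_nil]
  exact (Φ.F_eq_iff h6 W6.nil).2 (by rw [rels_L0.rel r hr, ev_nil])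

theorem relsH_six : (relsH ++ relsI.filter fun r => !r.contains 6).all (fun r => r.all fun l => decide (l < 6)) =
    true := by decide +kernel

theorem relsI_six : (relsI.filter fun r => r.contains 6) = [[6, 6]] := by decide +kernel

/-- Some element completes the six letters to a solution of all relators. -/
theorem exists_rels (hC : Nat.card (centralizer ({t} : Set G)) = 40320) {g : G}
    (hc : Commute t (g * t * g⁻¹)) (hne : g * t * g⁻¹ ≠ t) :
    ∃ w : G, Rels (Φ.LG ++ [w]) ∧ w * t * w⁻¹ = Φ.s := by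
  obtain ⟨⟨g1, hg1, e1⟩, g2, hg2, e2⟩ := Φ.exists_moves hC hc hne
  obtain ⟨w1, r1, q1, a1, b1, c1⟩ := Φ.exists_letter oneOK dOne one_relMat hC hg1 e1
  obtain ⟨w2, r2, q2, a2, b2, c2⟩ := Φ.exists_letter twoOK dTwo two_relMat hC hg2 e2
  have i1 : w1⁻¹ = w1 := inv_eq_of_mul_eq_one_right q1
  have i2 : w2⁻¹ = w2 := inv_eq_of_mul_eq_one_right q2
  rw [i1] at a1 b1
  rw [i2] at a2 b2
  set u := w2 * w1 with hu
  have hut : u * t = t * u := by
    calc w2 * w1 * t = w2 * (w1 * t * w1) * w1 := by simp only [mul_assoc, q1, mul_one]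
      _ = w2 * Φ.s * w2 * (w2 * w1) := by rw [a1]; simp only [mul_assoc, ← mul_assoc w2 w2, q2, one_mul]
      _ = t * (w2 * w1) := by rw [b2]
  have hus : u * Φ.s = Φ.s * u := by
    calc w2 * w1 * Φ.s = w2 * (w1 * Φ.s * w1) * w1 := by simp only [mul_assoc, q1, mul_one]
      _ = w2 * t * w2 * (w2 * w1) := by rw [b1]; simp only [mul_assoc, ← mul_assoc w2 w2, q2, one_mul]
      _ = Φ.s * (w2 * w1) := by rw [a2]
  obtain ⟨d, hd, ed⟩ := Φ.exists_dW oneOK dOne hC (mem_centralizer_singleton_iff.2 hut) hus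
  have hgen := dOne.gen
  simp only [dGenOK, Bool.and_eq_true, List.all_eq_true, List.mem_range, Nat.beq_eq] at hgen
  obtain ⟨⟨⟨hlen, -⟩, hiK⟩, -⟩ := hgen
  have hp := Φ.pair_dW oneOK dOne hd
  rw [← ed] at hp
  obtain ⟨h2, h4⟩ := dCent_facts hd fun x hx => by
    obtain ⟨i, hi, rfl⟩ := List.getElem_of_mem hx
    rw [← List.getD_eq_getElem dImg [] hi] at hx ⊢
    have k1 := c1 i (by omega)
    have k2 := c2 i (by omega)
    generalize dImg.getD i [] = x at hx k1 k2 ⊢
    have e : u * Φ.F x = Φ.F x * u := by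
      rw [hu]
      conv_lhs => rw [← k1]
      conv_rhs => rw [← k2]
      simp only [mul_assoc, ← mul_assoc w1 w1, ← mul_assoc w2 w2, q1, q2, one_mul, mul_one]
    have hq := Φ.pair_word oneOK _ (inK_sub (hiK _ hx) _)
    have ea := Pair.mul Φ oneOK hp hq
    rw [e] at ea
    rw [pcomm, Pair.unique Φ oneOK ea (Pair.mul Φ oneOK hq hp)]
    simp [peq]
  have eu : u = Φ.e one (one.pev d).1 := Φ.pair_eq_e oneOK dOne hC hp h2
  have hw2 : w2 = u * w1 := by rw [hu, mul_assoc, q1, mul_one]
  have tt := Φ.D.z_sq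
  have key : w2 = w1 ∨ t * w2 * t = w1 := by
    interval_cases hv : (one.pev d).1
    · exact Or.inl (by rw [hw2, eu, Φ.e_zero oneOK, one_mul])
    · exfalso
      rw [Φ.e_one oneOK] at eu
      rw [hw2, eu] at q2
      refine Φ.s_ne_t ?_
      calc Φ.s = t * (t * Φ.s) := by rw [← mul_assoc, tt, one_mul]
        _ = t * (t * w1 * (t * w1)) := by
          conv_lhs => rw [← a1]
          simp only [mul_assoc]
        _ = t := by rw [q2, mul_one]
    · exfalso
      rw [Φ.e_two oneOK] at eu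
      rw [hw2, eu] at q2
      refine Φ.s_ne_t ?_
      calc Φ.s = Φ.s * (Φ.s * w1 * (Φ.s * w1)) := by rw [q2, mul_one]
        _ = Φ.s * Φ.s * (w1 * Φ.s * w1) := by simp only [mul_assoc]
        _ = t := by rw [Φ.s_sq, one_mul, b1]
    · right
      have ts : Φ.e one 3 = t * Φ.s := by
        rw [show (3 : Nat) = 1 ^^^ 2 from rfl, Φ.e_add oneOK, Φ.e_one oneOK, Φ.e_two oneOK]
      rw [hw2, eu, ts]
      have sw : Φ.s * w1 = w1 * t := by rw [← a1, mul_assoc, q1, mul_one]
      calc t * (t * Φ.s * w1) * t = (t * t) * (Φ.s * w1) * t := by simp only [mul_assoc]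
        _ = w1 := by rw [tt, one_mul, sw, mul_assoc, tt, mul_one]
  have conjEv : ∀ r : List Nat, ev (Φ.LG ++ [t * w2 * t]) r = t * ev (Φ.LG ++ [w2]) r * t := by
    intro r
    induction r with
    | nil => rw [ev_nil, ev_nil, mul_one, tt]
    | cons l r ih =>
      rw [ev_cons, ev_cons, ih]
      have hl : fl (Φ.LG ++ [t * w2 * t]) l = t * fl (Φ.LG ++ [w2]) l * t := by
        rcases lt_trichotomy l 6 with h | rfl | h
        · rw [Φ.fl_append_lt h, Φ.fl_append_lt h]
          have := mem_centralizer_singleton_iff.1 (Φ.F_mem (w := [l]) fun k hk => by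
            rw [List.mem_singleton.1 hk]; exact h)
          rw [← this, mul_assoc, tt, mul_one]
        · rw [Φ.fl_append_six, Φ.fl_append_six]
        · rw [fl_of_le _ (by simp [Φ.LG_len]; omega), fl_of_le _ (by simp [Φ.LG_len]; omega), mul_one, tt]
      rw [hl]
      simp only [mul_assoc, ← mul_assoc t t, tt, one_mul]
  have r2' : ∀ r ∈ two.rls, ev (Φ.LG ++ [w1]) r = 1 := fun r hr => by
    rcases key with e | e
    · rw [← e]; exact r2 r hr
    · rw [← e, conjEv, r2 r hr, mul_one, tt]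
  refine ⟨w1, ⟨by simp [Φ.LG_len], fun r hr => ?_⟩, by rw [i1]; exact a1⟩
  have hr0 := hr
  simp only [rels, List.mem_append] at hr
  rcases hr with ((h | h) | h) | h
  · by_cases h6 : r.contains 6 = true
    · have : r ∈ [[6, 6]] := relsI_six ▸ List.mem_filter.2 ⟨h, h6⟩
      rw [List.mem_singleton.1 this]
      simp [ev_cons, Φ.fl_append_six, q1]
    · refine Φ.ev_relsH hr0 fun l hl => ?_
      have := List.all_eq_true.1 relsH_six r (List.mem_append.2 (Or.inr (List.mem_filter.2 ⟨h, by simpa using h6⟩)))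
      simpa using List.all_eq_true.1 this l hl
  · refine Φ.ev_relsH hr0 fun l hl => ?_
    have := List.all_eq_true.1 relsH_six r (List.mem_append.2 (Or.inl h))
    simpa using List.all_eq_true.1 this l hl
  · exact r1 r h
  · exact r2' r h

end Phi

end CfsgLib.McLUniq
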