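import Cfsg.Agent.McLUniq.Cover
import Mathlib.GroupTheory.Perm.Cycle.Type

/-!
# The involutions of the centralizer and the class of the second involution
-/

set_option autoImplicit false
set_option maxRecDepth 100000
set_option linter.style.haveILetI false

namespace CfsgLib.McLUniq

open Subgroup CfsgLib.Coset CfsgLib.BPres

/-- The permutation under a number of a word in `xW` and the central involution. -/
def piX (i : Nat) : Equiv.Perm (Fin 8) := if h : i < 6 then (cycA ⟨i, h⟩).val else 1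

/-- The permutation under the noncentral involution. -/
def piS : Equiv.Perm (Fin 8) := (sX.map piX).prod

theorem piS_facts : piS * piS = 1 ∧ piS ≠ 1 ∧ piS.support.card = 8 ∧
    Equiv.swap 0 (piS 0) * piS = piS * Equiv.swap 0 (piS 0) ∧
    Equiv.Perm.sign (Equiv.swap 0 (piS 0)) = -1 := by decide +kernel

theorem cycleType_invol {σ : Equiv.Perm (Fin 8)} (h : σ * σ = 1) (h1 : σ ≠ 1) :
    ∃ n, σ.cycleType = Multiset.replicate (n + 1) 2 ∧ σ.support.card = 2 * (n + 1) := by
  have ho : orderOf σ = 2 := orderOf_eq_prime (by rw [pow_two, h]) h1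
  obtain ⟨n, hn⟩ := Equiv.Perm.cycleType_prime_order (σ := σ) (by rw [ho]; exact Nat.prime_two)
  rw [ho] at hn
  refine ⟨n, hn, ?_⟩
  rw [← Equiv.Perm.sum_cycleType, hn, Multiset.sum_replicate, smul_eq_mul, mul_comm]

namespace Phi

variable {G : Type*} [Group G] [Finite G] {t : G} (Φ : Phi t)

/-- The six letters in the group. -/
noncomputable def LG : List G :=
  List.ofFn fun l : Fin 6 => Φ.f ⟨fl L0 l.val, fl_mem_subH l.2⟩

/-- A word in the group. -/
noncomputable def F (w : List Nat) : G := ev Φ.LG w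

theorem LG_len : Φ.LG.length = 6 := by simp [LG]

theorem fl_LG {l : Nat} (hl : l < 6) : fl Φ.LG l = Φ.f ⟨fl L0 l, fl_mem_subH hl⟩ := by
  rw [fl, List.getD_eq_getElem _ _ (by rw [Φ.LG_len]; exact hl)]
  unfold LG
  rw [List.getElem_ofFn]

theorem F_eq {w : List Nat} (hw : W6 w) : Φ.F w = Φ.f ⟨ev L0 w, mem_subH hw⟩ := by
  induction w with
  | nil =>
    show ev Φ.LG [] = _
    rw [ev_nil]
    exact (map_one Φ.f).symm
  | cons l w ih =>
    have hl : l < 6 := hw l List.mem_cons_self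
    have hw' : W6 w := fun k hk => hw k (List.mem_cons_of_mem _ hk)
    have := ih hw'
    show ev Φ.LG (l :: w) = _
    rw [ev_cons, Φ.fl_LG hl]
    show _ * Φ.F w = _
    rw [this, ← map_mul]
    rfl

theorem F_eq_iff {u w : List Nat} (hu : W6 u) (hw : W6 w) : Φ.F u = Φ.F w ↔ ev L0 u = ev L0 w := by
  rw [Φ.F_eq hu, Φ.F_eq hw, Φ.inj.eq_iff, Subtype.mk_eq_mk]

theorem F_congr {u w : List Nat} (hu : W6 u) (hw : W6 w) (h : eqW u w = true) : Φ.F u = Φ.F w :=
  (Φ.F_eq_iff hu hw).2 (ev_eq_of_eqW h)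

theorem F_nil : Φ.F [] = 1 := ev_nil _

theorem F_append (u w : List Nat) : Φ.F (u ++ w) = Φ.F u * Φ.F w := ev_append _ _ _

theorem F_cons (l : Nat) (w : List Nat) : Φ.F (l :: w) = Φ.F [l] * Φ.F w := by
  simp [F, ev_cons]

theorem F_flatMap (f : Nat → List Nat) (v : List Nat) :
    Φ.F (v.flatMap f) = (v.map fun i => Φ.F (f i)).prod := ev_flatMap _ _ _

theorem F_invW {w : List Nat} (hw : W6 w) : Φ.F (invW w) = (Φ.F w)⁻¹ := by
  refine eq_inv_of_mul_eq_one_left ?_
  rw [← F_append, ← Φ.F_nil, Φ.F_eq_iff (hw.invW.append hw) W6.nil, ev_append, ev_invW, ev_nil,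
    inv_mul_cancel]

theorem F_mem {w : List Nat} (hw : W6 w) : Φ.F w ∈ centralizer ({t} : Set G) := by
  rw [Φ.F_eq hw, ← Φ.range]
  exact ⟨_, rfl⟩

theorem exists_word {g : G} (hg : g ∈ centralizer ({t} : Set G)) : ∃ w, W6 w ∧ Φ.F w = g := by
  rw [← Φ.range] at hg
  obtain ⟨⟨p, hp⟩, rfl⟩ := hg
  obtain ⟨w, hw, rfl⟩ := exists_word_subH hp
  exact ⟨w, hw, Φ.F_eq hw⟩

theorem tW_W6 : W6 tW := w6_of_inH (by
  have h := cover_ok
  simp only [coverOK, Bool.and_eq_true] at h
  exact h.1.1.1.1.1.1.2)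

theorem sW_W6 : W6 sW := w6_of_inH (by
  have h := cover_ok
  simp only [coverOK, Bool.and_eq_true] at h
  exact h.1.1.1.1.1.2)

theorem stW_W6 : W6 stW := w6_of_inH (by
  have h := cover_ok
  simp only [coverOK, Bool.and_eq_true] at h
  exact h.1.1.1.1.2)

theorem xW_W6 {i : Nat} : W6 (xW.getD i []) := by
  have h := cover_ok
  simp only [coverOK, Bool.and_eq_true, List.all_eq_true] at h
  rcases lt_or_ge i xW.length with hi | hi
  · rw [List.getD_eq_getElem _ _ hi]
    exact w6_of_inH (h.1.1.1.1.1.1.1.2 _ (List.getElem_mem _))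
  · rw [List.getD_eq_default _ _ hi]
    exact W6.nil

theorem F_t : Φ.F tW = t := by rw [Φ.F_eq tW_W6, Φ.t_eq]

/-- The second involution. -/
noncomputable def s : G := Φ.F sW

theorem gen_facts :
    eqW sW (subX sX) = true ∧ (∀ i ∈ sX, i < 7) ∧ eqW (stW ++ sW ++ tW) (sW ++ stW) = true ∧
    eqW (sW ++ sW) [] = true ∧ eqW sW [] = false ∧ eqW sW tW = false := by
  have h := coverGen_ok
  simp only [coverGenOK, Bool.and_eq_true, List.all_eq_true, decide_eq_true_eq, Bool.not_eq_true'] at h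
  exact ⟨h.1.1.1.1.1.2, h.1.1.1.1.2, h.1.1.1.2, h.1.1.2, h.1.2, h.2⟩

theorem s_sq : Φ.s * Φ.s = 1 := by
  rw [s, ← F_append, Φ.F_congr (sW_W6.append sW_W6) W6.nil gen_facts.2.2.2.1, F_nil]

theorem eqW_of_eq {u w : List Nat} (hu : W6 u) (hw : W6 w) (h : Φ.F u = Φ.F w) : eqW u w = true :=
  List.all_eq_true.2 fun v hv => by
    rw [appN_eq_of_ev ((Φ.F_eq_iff hu hw).1 h) (List.mem_range.1 hv)]
    exact Nat.beq_refl _

theorem s_ne_one : Φ.s ≠ 1 := fun e => by
  have := Φ.eqW_of_eq sW_W6 W6.nil (e.trans Φ.F_nil.symm)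
  rw [gen_facts.2.2.2.2.1] at this
  exact absurd this (by simp)

theorem s_ne_t : Φ.s ≠ t := fun e => by
  have := Φ.eqW_of_eq sW_W6 tW_W6 (e.trans Φ.F_t.symm)
  rw [gen_facts.2.2.2.2.2] at this
  exact absurd this (by simp)

theorem s_comm : Φ.s * t = t * Φ.s := mem_centralizer_singleton_iff.1 (Φ.F_mem sW_W6)

theorem img_subX {v : List Nat} (hv : ∀ i ∈ v, i < 7) : Φ.D.Img (Φ.F (subX v)) (v.map piX).prod := by
  induction v with
  | nil => simpa [subX, F_nil] using Φ.D.img_one
  | cons a v ih =>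
    have e : subX (a :: v) = (if Nat.beq a 6 then tW else xW.getD a []) ++ subX v := by simp [subX]
    rw [e, F_append, List.map_cons, List.prod_cons]
    refine DoubleAlt.Data.Img.mul ?_ (ih fun i hi => hv i (List.mem_cons_of_mem _ hi))
    by_cases ha : Nat.beq a 6 = true
    · rw [if_pos ha, Φ.F_t, Nat.eq_of_beq_eq_true ha]
      simpa [piX] using Φ.D.img_z
    · rw [if_neg ha]
      have h6 : a < 6 := by
        have := hv a List.mem_cons_self
        rcases eq_or_ne a 6 with rfl | hne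
        · simp at ha
        · omega
      rw [piX, dif_pos h6, Φ.F_eq xW_W6]
      exact Φ.img ⟨a, h6⟩ _

theorem img_s : Φ.D.Img Φ.s piS := by
  have e : Φ.s = Φ.F (subX sX) := by
    refine Φ.F_congr sW_W6 ?_ gen_facts.1
    exact W6.flatMap fun i _ => by
      by_cases hi : Nat.beq i 6 = true
      · rw [if_pos hi]; exact tW_W6
      · rw [if_neg hi]; exact xW_W6
  rw [e, piS]
  exact Φ.img_subX gen_facts.2.1

/-- Every involution of the centralizer other than the central one is conjugate to `s`. -/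
theorem invol_conj {g : G} (hg : g ∈ centralizer ({t} : Set G)) (h2 : g * g = 1) (h1 : g ≠ 1)
    (hne : g ≠ t) : ∃ h ∈ centralizer ({t} : Set G), h * g * h⁻¹ = Φ.s := by
  obtain ⟨π, hπ⟩ := Φ.D.img_of_comm (mem_centralizer_singleton_iff.1 hg)
  have hsq : π * π = 1 := (hπ.mul hπ).unique (by rw [h2]; exact Φ.D.img_one)
  have hπ1 : π ≠ 1 := fun e => by
    subst e
    rcases hπ.eq_one with e | e
    · exact h1 e
    · exact hne e
  obtain ⟨n, hct, hsupp⟩ := cycleType_invol hsq hπ1
  have hle : π.support.card ≤ 8 := le_trans (Finset.card_le_univ _) (by simp)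
  have hsgn := hπ.sgn
  rw [Equiv.Perm.sign_of_cycleType, hct, Multiset.sum_replicate, Multiset.card_replicate] at hsgn
  have hn : n = 3 := by
    have h4 : n < 4 := by omega
    interval_cases n
    · exact absurd hsgn (by decide)
    · exfalso
      have h := hπ.double_sq hct
      exact Φ.D.z_ne (h.symm.trans h2)
    · exact absurd hsgn (by decide)
    · rfl
  subst hn
  obtain ⟨s1, s2, s3, s4, s5⟩ := piS_facts
  obtain ⟨m, hm, hm'⟩ := cycleType_invol s1 s2
  rw [s3] at hm'
  obtain rfl : m = 3 := by omega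
  obtain ⟨σ, hσ⟩ := isConj_iff.1 ((Equiv.Perm.isConj_iff_cycleType_eq).2 (hct.trans hm.symm))
  set ρ := Equiv.swap 0 (piS 0) with hρ
  obtain ⟨τ, hτ, hτe⟩ : ∃ τ : Equiv.Perm (Fin 8), Equiv.Perm.sign τ = 1 ∧ τ * π * τ⁻¹ = piS := by
    rcases Int.units_eq_one_or (Equiv.Perm.sign σ) with h | h
    · exact ⟨σ, h, hσ⟩
    · refine ⟨ρ * σ, by rw [map_mul, s5, h]; decide, ?_⟩
      calc ρ * σ * π * (ρ * σ)⁻¹ = ρ * (σ * π * σ⁻¹) * ρ⁻¹ := by group
        _ = piS := by rw [hσ, s4, mul_inv_cancel_right]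
  obtain ⟨h, hh⟩ := Φ.D.exists_img hτ
  have hc := hh.conj hπ
  rw [hτe] at hc
  have hhC : h ∈ centralizer ({t} : Set G) := mem_centralizer_singleton_iff.2 hh.comm.eq
  rcases hc.eq_or Φ.img_s with e | e
  · exact ⟨h, hhC, e⟩
  · refine ⟨Φ.F stW * h, mul_mem (Φ.F_mem stW_W6) hhC, ?_⟩
    have e' := Φ.F_congr ((stW_W6.append sW_W6).append tW_W6) (sW_W6.append stW_W6) gen_facts.2.2.1
    rw [F_append, F_append, F_append, Φ.F_t] at e'
    calc Φ.F stW * h * g * (Φ.F stW * h)⁻¹ = Φ.F stW * (h * g * h⁻¹) * (Φ.F stW)⁻¹ := by group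
      _ = Φ.F stW * Φ.s * t * (Φ.F stW)⁻¹ := by rw [e]; group
      _ = Φ.s := by
        show Φ.F stW * Φ.F sW * t * (Φ.F stW)⁻¹ = Φ.F sW
        rw [e', mul_inv_cancel_right]

/-- At most 192 elements of the centralizer commute with `s`. -/
theorem card_cent_le (hC : Nat.card (centralizer ({t} : Set G)) = 40320) :
    Nat.card ↥(centralizer ({t} : Set G) ⊓ centralizer ({Φ.s} : Set G)) ≤ 192 := by
  set C := centralizer ({t} : Set G)
  set S := C ⊓ centralizer ({Φ.s} : Set G)
  have ho := orb_ok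
  simp only [orbOK, Bool.and_eq_true, List.all_eq_true, List.mem_range, Bool.not_eq_true',
    decide_eq_true_eq, Nat.beq_eq] at ho
  obtain ⟨⟨⟨hl, hH⟩, hpt⟩, hdist⟩ := ho
  have hW : ∀ i, i < 210 → W6 (orbW.getD i []) := fun i hi => by
    rw [List.getD_eq_getElem _ _ (by omega)]
    exact w6_of_inH (hH _ (List.getElem_mem _))
  have key : ∀ i j, i < 210 → j < 210 →
      Φ.F (orbW.getD i []) * Φ.s * (Φ.F (orbW.getD i []))⁻¹ =
        Φ.F (orbW.getD j []) * Φ.s * (Φ.F (orbW.getD j []))⁻¹ → orbKeys.getD i [] = orbKeys.getD j [] := by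
    intro i j hi hj e
    have wi := (hW i hi).append sW_W6 |>.append (hW i hi).invW
    have wj := (hW j hj).append sW_W6 |>.append (hW j hj).invW
    have e' : Φ.F (orbW.getD i [] ++ sW ++ invW (orbW.getD i [])) =
        Φ.F (orbW.getD j [] ++ sW ++ invW (orbW.getD j [])) := by
      rw [F_append, F_append, F_append, F_append, Φ.F_invW (hW i hi), Φ.F_invW (hW j hj)]
      exact e
    simp only [orbKeys, List.getD_eq_getElem?_getD, List.getElem?_map,
      List.getElem?_eq_getElem (show i < orbW.length by omega),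
      List.getElem?_eq_getElem (show j < orbW.length by omega), Option.map_some, Option.getD_some]
    rw [List.getD_eq_getElem _ _ (show i < orbW.length by omega),
      List.getD_eq_getElem _ _ (show j < orbW.length by omega)] at e'
    have wi' := wi; have wj' := wj
    rw [List.getD_eq_getElem _ _ (show i < orbW.length by omega)] at wi'
    rw [List.getD_eq_getElem _ _ (show j < orbW.length by omega)] at wj'
    exact keyW_eq hpt ((Φ.F_eq_iff wi' wj').1 e')
  let φ : Fin 210 × S → C := fun p => ⟨Φ.F (orbW.getD p.1.val []) * p.2.1,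
    mul_mem (Φ.F_mem (hW _ p.1.2)) p.2.2.1⟩
  have hφ : Function.Injective φ := by
    rintro ⟨i, g, hg⟩ ⟨j, g', hg'⟩ e
    have e1 : Φ.F (orbW.getD i.val []) * g = Φ.F (orbW.getD j.val []) * g' := congrArg Subtype.val e
    have hs : ∀ x ∈ S, x * Φ.s = Φ.s * x := fun x hx => mem_centralizer_singleton_iff.1 hx.2
    have hk : orbKeys.getD i.val [] = orbKeys.getD j.val [] := key _ _ i.2 j.2 (by
      calc Φ.F (orbW.getD i.val []) * Φ.s * (Φ.F (orbW.getD i.val []))⁻¹
          = (Φ.F (orbW.getD i.val []) * g) * Φ.s * (Φ.F (orbW.getD i.val []) * g)⁻¹ := by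
            rw [mul_assoc (Φ.F _) g, hs g hg]; group
        _ = _ := by rw [e1, mul_assoc (Φ.F _) g', hs g' hg']; group)
    have hij : i = j := by
      rcases lt_trichotomy i.val j.val with h | h | h
      · have := hdist j.val j.2 i.val h
        rw [hk] at this
        simp at this
      · exact Fin.ext h
      · have := hdist i.val i.2 j.val h
        rw [hk] at this
        simp at this
    subst hij
    simpa using e1
  have := Nat.card_le_card_of_injective φ hφ
  rw [Nat.card_prod, Nat.card_fin, hC] at this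
  omega

end Phi

end CfsgLib.McLUniq
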