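import Cfsg.Agent.McLUniq.Dset

/-!
# The normalizer of the elementary abelian group of a class
-/

set_option autoImplicit false
set_option maxRecDepth 100000
set_option linter.unusedSectionVars false

namespace CfsgLib.McLUniq

open Subgroup CfsgLib.Coset

namespace Phi

variable {G : Type*} [Group G] [Finite G] {t : G} (Φ : Phi t) {c : Cl} (hc : ClOK c)

/-- The group of a class. -/
noncomputable def Esub : Subgroup G where
  carrier := {g | Φ.InE c g}
  one_mem' := ⟨0, by norm_num, (Φ.e_zero hc).symm⟩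
  mul_mem' := by
    rintro a b ⟨v, hv, rfl⟩ ⟨u, hu, rfl⟩
    exact ⟨v ^^^ u, Nat.xor_lt_two_pow (n := 4) hv hu, (Φ.e_add hc v u).symm⟩
  inv_mem' := by
    rintro a ⟨v, hv, rfl⟩
    exact ⟨v, hv, Φ.e_inv hc v⟩

/-- Its normalizer. -/
noncomputable def Nrm : Subgroup G where
  carrier := {g | (∀ v, v < 16 → Φ.InE c (g * Φ.e c v * g⁻¹)) ∧ ∀ v, v < 16 → Φ.InE c (g⁻¹ * Φ.e c v * g)}
  one_mem' := ⟨fun v hv => ⟨v, hv, by simp⟩, fun v hv => ⟨v, hv, by simp⟩⟩
  mul_mem' := by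
    rintro a b ⟨ha, ha'⟩ ⟨hb, hb'⟩
    refine ⟨fun v hv => ?_, fun v hv => ?_⟩
    · obtain ⟨u, hu, e⟩ := hb v hv
      obtain ⟨w, hw, e'⟩ := ha u hu
      exact ⟨w, hw, by rw [← e', ← e]; group⟩
    · obtain ⟨u, hu, e⟩ := ha' v hv
      obtain ⟨w, hw, e'⟩ := hb' u hu
      exact ⟨w, hw, by rw [← e', ← e]; group⟩
  inv_mem' := by
    rintro a ⟨ha, ha'⟩
    exact ⟨fun v hv => by rw [inv_inv]; exact ha' v hv, fun v hv => by rw [inv_inv]; exact ha v hv⟩

include hc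

theorem mem_nrm_of_conj {g : G} (h : ∀ v, v < 16 → Φ.InE c (g * Φ.e c v * g⁻¹)) : g ∈ Φ.Nrm (c := c) := by
  refine ⟨h, fun v hv => ?_⟩
  choose f hf he using h
  let F : Fin 16 → Fin 16 := fun u => ⟨f u.val u.2, hf _ u.2⟩
  have hF : Function.Injective F := fun a b e => by
    have e' : f a.val a.2 = f b.val b.2 := congrArg Fin.val e
    have : g * Φ.e c a.val * g⁻¹ = g * Φ.e c b.val * g⁻¹ := by rw [he _ a.2, he _ b.2, e']
    exact Fin.ext (Φ.e_inj hc a.2 b.2 (mul_left_cancel (mul_right_cancel this)))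
  obtain ⟨u, hu⟩ := (Finite.injective_iff_surjective.1 hF) ⟨v, hv⟩
  have e' : f u.val u.2 = v := congrArg Fin.val hu
  refine ⟨u.val, u.2, ?_⟩
  rw [← e', ← he _ u.2]
  group

theorem mem_nrm_of_mat {g : G} {X : Nat} (h : Φ.IsMat c g X) : g ∈ Φ.Nrm (c := c) :=
  Φ.mem_nrm_of_conj hc fun v hv => ⟨_, apM_lt _ _, h v hv⟩

theorem exists_mat_of_mem {g : G} (h : g ∈ Φ.Nrm (c := c)) : ∃ X, X < 65536 ∧ Φ.IsMat c g X :=
  Φ.exists_mat hc h.1

theorem pair_nrm {g : G} {p : Nat × Nat} (h : Φ.Pair c g p) : g ∈ Φ.Nrm (c := c) :=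
  Φ.mem_nrm_of_mat hc (Pair.isMat Φ hc h)

theorem t_mem_E : Φ.InE c t := ⟨1, by norm_num, (Φ.e_one hc).symm⟩

theorem nrm_cent_bar (hd : DTests c) (hC : Nat.card (centralizer ({t} : Set G)) = 40320) {g : G}
    (hg : g ∈ Φ.Nrm (c := c)) (ht : g ∈ centralizer ({t} : Set G)) :
    ∃ v wd, v < 16 ∧ Cl.inL wd = true ∧ g = Φ.e c v * Φ.F (c.sub2 wd) := by
  obtain ⟨X, hX, hm⟩ := Φ.exists_mat_of_mem hc hg
  obtain ⟨-, wd, hwd, he⟩ := bar_elem hc hd (Φ.mat_stab hc hd hC ht hX hm)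
  have hsub := Φ.isMat_sub2 hc wd hwd
  rw [he] at hsub
  obtain ⟨v, hv, e⟩ : Φ.InE c (g * (Φ.F (c.sub2 wd))⁻¹) := Φ.cent_E hc hd hC fun u hu => by
    obtain ⟨w, hw, ew⟩ := (Φ.mem_nrm_of_mat hc hsub).2 u hu
    have h1 := hm w hw
    have h2 := hsub w hw
    have e3 : Φ.F (c.sub2 wd) * Φ.e c w * (Φ.F (c.sub2 wd))⁻¹ = Φ.e c u := by rw [← ew]; group
    rw [e3] at h2
    rw [← h2] at h1
    have e4 : Φ.e c w = (Φ.F (c.sub2 wd))⁻¹ * Φ.e c u * Φ.F (c.sub2 wd) := ew.symm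
    rw [e4] at h1
    calc g * (Φ.F (c.sub2 wd))⁻¹ * Φ.e c u
        = g * ((Φ.F (c.sub2 wd))⁻¹ * Φ.e c u * Φ.F (c.sub2 wd)) * g⁻¹ * (g * (Φ.F (c.sub2 wd))⁻¹) := by group
      _ = Φ.e c u * (g * (Φ.F (c.sub2 wd))⁻¹) := by rw [h1]
  exact ⟨v, wd, hv, hwd, by rw [← e]; group⟩

/-- The index of the part centralizing the central involution is odd when the central involution moves. -/
theorem exists_coset_rep (hd : DTests c) (hC : Nat.card (centralizer ({t} : Set G)) = 40320) {g : G}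
    (hg : g ∈ Φ.Nrm (c := c)) (hne : g * t * g⁻¹ ≠ t) :
    ∃ g1 ∈ Φ.Nrm (c := c), g1 * t * g1⁻¹ = Φ.s := by
  obtain ⟨v, hv, e⟩ := hg.1 1 (by norm_num)
  rw [Φ.e_one hc] at e
  have h2 : 2 ≤ v := by
    by_contra hh
    have : v = 0 ∨ v = 1 := by omega
    rcases this with rfl | rfl
    · rw [Φ.e_zero hc, mul_inv_eq_one, mul_eq_left] at e
      exact Φ.D.z_ne e
    · rw [Φ.e_one hc] at e
      exact hne e
  obtain ⟨⟨wd, hwd, hm⟩, -⟩ := exists_move hc hd hv h2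
  have hl := Φ.isMat_sub2 hc wd hwd
  refine ⟨Φ.F (c.sub2 wd) * g, mul_mem (Φ.mem_nrm_of_mat hc hl) hg, ?_⟩
  calc Φ.F (c.sub2 wd) * g * t * (Φ.F (c.sub2 wd) * g)⁻¹
      = Φ.F (c.sub2 wd) * (g * t * g⁻¹) * (Φ.F (c.sub2 wd))⁻¹ := by group
    _ = Φ.s := by rw [e, hl v hv, hm, Φ.e_two hc]

theorem index_cent (hd : DTests c) (hC : Nat.card (centralizer ({t} : Set G)) = 40320) {g1 : G}
    (hg1 : g1 ∈ Φ.Nrm (c := c)) (h1 : g1 * t * g1⁻¹ = Φ.s) :
    ((centralizer ({t} : Set G)).subgroupOf (Φ.Nrm (c := c))).index = 15 := by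
  set N := Φ.Nrm (c := c)
  set U := (centralizer ({t} : Set G)).subgroupOf N
  have hex : ∀ g : N, ∃ v : {v : Fin 16 // v ≠ 0}, (g : G) * t * (g : G)⁻¹ = Φ.e c v.1.val := fun g => by
    obtain ⟨v, hv, e⟩ := g.2.1 1 (by norm_num)
    rw [Φ.e_one hc] at e
    refine ⟨⟨⟨v, hv⟩, fun hh => ?_⟩, e⟩
    obtain rfl : v = 0 := congrArg Fin.val hh
    rw [Φ.e_zero hc, mul_inv_eq_one, mul_eq_left] at e
    exact Φ.D.z_ne e
  choose f hf using hex
  let φ : N ⧸ U → {v : Fin 16 // v ≠ 0} := fun q => f q.out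
  have hinj : Function.Injective φ := fun q q' e => by
    have e1 := hf q.out
    have e2 := hf q'.out
    rw [show f q.out = f q'.out from e, ← e2] at e1
    rw [← q.out_eq, ← q'.out_eq]
    refine QuotientGroup.eq.2 (Subgroup.mem_subgroupOf.2 (mem_centralizer_singleton_iff.2 ?_))
    rw [Subgroup.coe_mul, Subgroup.coe_inv]
    calc (q.out : G)⁻¹ * (q'.out : G) * t
        = (q.out : G)⁻¹ * ((q'.out : G) * t * (q'.out : G)⁻¹) * (q'.out : G) := by group
      _ = t * ((q.out : G)⁻¹ * (q'.out : G)) := by rw [← e1]; group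
  have hsurj : Function.Surjective φ := by
    rintro ⟨v, hv0⟩
    obtain ⟨g, hg, e⟩ : ∃ g ∈ N, g * t * g⁻¹ = Φ.e c v.val := by
      rcases eq_or_ne v.val 1 with h | h
      · exact ⟨1, one_mem _, by rw [h, Φ.e_one hc]; simp⟩
      · have h0 : v.val ≠ 0 := fun hh => hv0 (Fin.ext hh)
        obtain ⟨-, wd, hwd, hm⟩ := exists_move hc hd v.2 (by omega)
        have hl := Φ.isMat_sub2 hc wd hwd
        refine ⟨Φ.F (c.sub2 wd) * g1, mul_mem (Φ.mem_nrm_of_mat hc hl) hg1, ?_⟩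
        have h2 := hl 2 (by norm_num)
        rw [hm, Φ.e_two hc, ← h1] at h2
        rw [← h2]
        group
    refine ⟨QuotientGroup.mk ⟨g, hg⟩, Subtype.ext (Fin.ext ?_)⟩
    obtain ⟨u, hu⟩ := QuotientGroup.mk_out_eq_mul U (⟨g, hg⟩ : N)
    refine Φ.e_inj hc (Fin.isLt _) (Fin.isLt _) ?_
    rw [← hf, hu]
    have hu' : (u.1 : G) * t = t * (u.1 : G) := mem_centralizer_singleton_iff.1 (Subgroup.mem_subgroupOf.1 u.2)
    rw [Subgroup.coe_mul, ← e]
    calc g * (u.1 : G) * t * (g * (u.1 : G))⁻¹ = g * ((u.1 : G) * t) * (u.1 : G)⁻¹ * g⁻¹ := by group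
      _ = g * t * g⁻¹ := by rw [hu']; group
  rw [Subgroup.index_eq_card, Nat.card_congr (Equiv.ofBijective φ ⟨hinj, hsurj⟩)]
  rw [Nat.card_eq_fintype_card]
  rfl

/-- Some element of the normalizer acts like the last letter. -/
theorem exists_act_xw (hd : DTests c) (hC : Nat.card (centralizer ({t} : Set G)) = 40320) {g1 : G}
    (hg1 : g1 ∈ Φ.Nrm (c := c)) (h1 : g1 * t * g1⁻¹ = Φ.s) :
    ∃ g, Φ.IsMat c g c.xw := by
  obtain ⟨X, hXlt, hX⟩ := Φ.exists_mat_of_mem hc hg1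
  have hX1 : apM X 1 = 2 := by
    have h := hX 1 (by norm_num)
    rw [Φ.e_one hc, h1] at h
    exact Φ.e_inj hc (apM_lt _ _) (by norm_num) (by rw [← h, Φ.e_two hc])
  have hcol : colM X 0 = 2 := by rw [← (apM_basis X).1, hX1]
  have hXeq : X = 2 + 16 * (X / 16) := by
    rw [colM_eq] at hcol
    norm_num at hcol
    omega
  have hcos := of_allBelow hc.cosetT (X / 16) (by omega)
  simp only [Cl.cosetAt, ← hXeq, Bool.or_eq_true, List.any_eq_true, List.mem_range, Bool.and_eq_true,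
    Bool.not_eq_true', Nat.beq_eq] at hcos
  rcases hcos with ⟨v, hv, hv0, hv1⟩ | ⟨R, hR, hbar⟩
  · exfalso
    have h := hX v hv
    rw [hv1, Φ.e_zero hc, mul_inv_eq_one, mul_eq_left] at h
    have := Φ.e_eq_one hc hv h
    subst this
    simp at hv0
  have hr := hc.repsT
  simp only [Cl.repsOK, Bool.and_eq_true, List.all_eq_true, List.mem_range, Nat.beq_eq, decide_eq_true_eq,
    Bool.not_eq_true'] at hr
  obtain ⟨⟨hlen, hinv⟩, hbad⟩ := hr
  obtain ⟨j, hj, rfl⟩ := List.getElem_of_mem hR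
  have hj' : j < c.reps.length + 1 := hlen ▸ hj
  set Rj := (c.xw :: c.reps.map Prod.fst).getD j 0 with hRj
  have hjR := hinv j hj'
  rw [List.getD_eq_getElem _ _ hj] at hjR
  obtain ⟨-, wd, hwd, hwde⟩ := bar_elem hc hd hbar
  have hl := Φ.isMat_sub2 hc wd hwd
  set l := Φ.F (c.sub2 wd) with hldef
  -- the corrected element acts by the coset representative
  have hg2 : Φ.IsMat c (g1 * l⁻¹) Rj := fun v hv => by
    obtain ⟨u, hu, eu⟩ := (Φ.mem_nrm_of_mat hc hl).2 v hv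
    have hlu : apM (c.mat2 wd) u = v := by
      refine Φ.e_inj hc (apM_lt _ _) hv ?_
      rw [← hl u hu, ← eu]
      group
    have e2 : apM Rj v = apM X u := by
      rw [← hlu, hwde, apM_mulM, ← apM_mulM Rj, hjR, apM_idM (apM_lt _ _)]
    rw [e2, ← hX u hu, ← eu]
    group
  rcases Nat.eq_zero_or_pos j with h0 | h0
  · refine ⟨g1 * l⁻¹, ?_⟩
    have e : Rj = c.xw := by rw [hRj, h0]; rfl
    rwa [← e]
  · exfalso
    obtain ⟨k, rfl⟩ : ∃ k, j = k + 1 := ⟨j - 1, by omega⟩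
    have hk : k < c.reps.length := by omega
    have hRk : Rj = (c.reps[k]).1 := by
      rw [hRj, List.getD_cons_succ, List.getD_eq_getElem _ _ (by simpa using hk), List.getElem_map]
    obtain ⟨⟨hw3, hfix⟩, hnot⟩ := hbad _ (List.getElem_mem hk)
    rw [← hRk] at hfix hnot
    set m : List Nat := (c.reps[k]).2
    obtain ⟨hA, hB⟩ := Φ.gens_mat hc
    set gl : List G := [Φ.F c.aW, Φ.F c.bW, g1 * l⁻¹]
    set ml : List Nat := [c.gens.getD 0 idM, c.gens.getD 1 idM, Rj]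
    have hev : ∀ w : List Nat, (∀ i ∈ w, i < 3) →
        Φ.IsMat c (ev gl w) (w.foldr (fun i Z => mulM (ml.getD i idM) Z) idM) ∧
          w.foldr (fun i Z => mulM (ml.getD i idM) Z) idM < 65536 := by
      intro w
      induction w with
      | nil => intro _; rw [ev_nil]; exact ⟨Φ.isMat_one hc, by show idM < 65536; decide⟩
      | cons a w ih =>
        intro hw
        obtain ⟨ih1, -⟩ := ih fun i hi => hw i (List.mem_cons_of_mem _ hi)
        rw [ev_cons, List.foldr_cons]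
        refine ⟨IsMat.mul Φ hc ?_ ih1, mulM_lt _ _⟩
        have ha := hw a List.mem_cons_self
        interval_cases a
        · exact hA
        · exact hB
        · exact hg2
    obtain ⟨hm, hmlt⟩ := hev m hw3
    have hcent : ev gl m ∈ centralizer ({t} : Set G) := by
      refine mem_centralizer_singleton_iff.2 ?_
      have h := hm 1 (by norm_num)
      rw [hfix, Φ.e_one hc, mul_inv_eq_iff_eq_mul] at h
      exact h
    rw [Φ.mat_stab hc hd hC hcent hmlt hm] at hnot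
    exact absurd hnot (by simp)

end Phi

end CfsgLib.McLUniq
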