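import Cfsg.Agent.McLUniq.Perm

/-!
# Codes for the elements of a normalizer of an elementary abelian group of order 16

A vector is a number below 16, a matrix the number made of the images of the four basis vectors, an
element a pair of both.
-/

set_option autoImplicit false
set_option maxRecDepth 100000

namespace CfsgLib.McLUniq

open CfsgLib.Coset

/-- A column of a matrix. -/
def colM (X i : Nat) : Nat := (X >>> (4 * i)) &&& 15

/-- Keep a number when the bit is set. -/
def pickB (v i a : Nat) : Nat := if Nat.beq ((v >>> i) &&& 1) 1 then a else 0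

/-- A matrix on a vector. -/
def apM (X v : Nat) : Nat :=
  pickB v 0 (colM X 0) ^^^ pickB v 1 (colM X 1) ^^^ pickB v 2 (colM X 2) ^^^ pickB v 3 (colM X 3)

/-- The product of two matrices, the right one first. -/
def mulM (X Y : Nat) : Nat :=
  apM X (colM Y 0) + 16 * apM X (colM Y 1) + 256 * apM X (colM Y 2) + 4096 * apM X (colM Y 3)

/-- The identity matrix. -/
def idM : Nat := 0x8421

/-- The product of two pairs. -/
def pmul (p q : Nat × Nat) : Nat × Nat := (p.1 ^^^ apM p.2 q.1, mulM p.2 q.2)

/-- The code of a pair. -/
def pcode (p : Nat × Nat) : Nat := p.1 + 16 * p.2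

/-- Equality of pairs. -/
def peq (p q : Nat × Nat) : Bool := Nat.beq p.1 q.1 && Nat.beq p.2 q.2

theorem eq_of_peq {p q : Nat × Nat} (h : peq p q = true) : p = q := by
  rw [peq, Bool.and_eq_true] at h
  exact Prod.ext (Nat.eq_of_beq_eq_true h.1) (Nat.eq_of_beq_eq_true h.2)

theorem pickB_lt {v i a n : Nat} (h : a < 2 ^ n) : pickB v i a < 2 ^ n := by
  unfold pickB; split
  · exact h
  · exact Nat.two_pow_pos n

theorem colM_lt (X i : Nat) : colM X i < 16 := Nat.lt_of_le_of_lt Nat.and_le_right (by norm_num)

theorem apM_lt (X v : Nat) : apM X v < 16 := by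
  have h : ∀ i, pickB v i (colM X i) < 2 ^ 4 := fun i => pickB_lt (by simpa using colM_lt X i)
  exact Nat.xor_lt_two_pow (Nat.xor_lt_two_pow (Nat.xor_lt_two_pow (h 0) (h 1)) (h 2)) (h 3)

theorem mulM_lt (X Y : Nat) : mulM X Y < 65536 := by
  have h := apM_lt X
  unfold mulM
  have := h (colM Y 0); have := h (colM Y 1); have := h (colM Y 2); have := h (colM Y 3)
  omega

/-- The data of one class of elementary abelian subgroups of order 16. -/
structure Cl where
  /-- The letter completing the stabilizer. -/
  al : Nat
  /-- A point fixed by the complement and moved by the group. -/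
  pt : Nat
  basis : List (List Nat)
  aW : List Nat
  bW : List Nat
  gens : List Nat
  lbar : List (Nat × List Nat)
  lets : List (Nat × Nat × List Nat)
  vw : Nat
  xw : Nat
  sols : List (Nat × Nat × Nat)
  reps : List (Nat × List Nat)
  repsInv : List Nat
  /-- The relators of the normalizer. -/
  rls : List (List Nat)

namespace Cl

variable (c : Cl)

/-- The word of a vector. -/
def eW (v : Nat) : List Nat :=
  (List.range 4).flatMap fun i => if Nat.beq ((v >>> i) &&& 1) 1 then c.basis.getD i [] else []

/-- A word in the generators of the complement as a word in the letters. -/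
def sub2 (wd : List Nat) : List Nat := wd.flatMap fun i => if Nat.beq i 0 then c.aW else c.bW

/-- The matrix of a word in the generators of the complement. -/
def mat2 (wd : List Nat) : Nat := wd.foldr (fun i Y => mulM (c.gens.getD i idM) Y) idM

/-- Membership in the matrix group of the complement. -/
def inBar (X : Nat) : Bool := c.lbar.any fun e => Nat.beq e.1 X

/-- The letter numbers. -/
def letters : List Nat := [0, 1, 2, 3, c.al, 6]

/-- The pair of a letter. -/
def letP (l : Nat) : Nat × Nat :=
  if Nat.beq l 6 then (c.vw, c.xw)
  else match c.lets.find? (fun e => Nat.beq e.1 l) with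
    | some e => (e.2.1, c.mat2 e.2.2)
    | none => (0, idM)

/-- The pair of a word. -/
def pev (w : List Nat) : Nat × Nat := w.foldr (fun l p => pmul (c.letP l) p) (0, idM)

end Cl

/-- The first class. -/
def one : Cl := ⟨4, 64, basisOne, aWOne, bWOne, gensOne, lbarOne, letsOne, vwOne, xwOne, solsOne, repsOne,
  repsInvOne, relsM⟩

/-- The second class. -/
def two : Cl := ⟨5, 65, basisTwo, aWTwo, bWTwo, gensTwo, lbarTwo, letsTwo, vwTwo, xwTwo, solsTwo, repsTwo,
  repsInvTwo, relsN⟩

end CfsgLib.McLUniq
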